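import Groth.Agent.L14.GITLin.Weight

/-!
# Division by a function of given weight
-/

set_option autoImplicit false
set_option linter.style.haveILetI false
set_option backward.isDefEq.respectTransparency false

noncomputable section

universe u

open CategoryTheory MonoidalCategory CartesianMonoidalCategory AlgebraicGeometry TopologicalSpace Opposite

namespace Groth.L14.GITLin

variable {S : Scheme.{u}} {X V : Over S} {π : V ⟶ X} (A : GLinSh.LinAtlas π) {n : ℕ} {f : Γ(V.left, ⊤)}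

theorem resTop_res {W W' : X.left.Opens} (h : W' ≤ W) (F : Γ(V.left, ⊤)) :
    rsV (π.left.preimage_mono h) (GLinSh.resTop π W F) = GLinSh.resTop π W' F := res_res _ _ _

theorem resTop_mul_eq {W W' : X.left.Opens} (h : W' ≤ W) {F G : Γ(V.left, ⊤)} {c : Γ(X.left, W)} {m : ℕ}
    (e : GLinSh.resTop π W F = π.left.app W c * GLinSh.resTop π W G ^ m) :
    GLinSh.resTop π W' F = π.left.app W' (rsX h c) * GLinSh.resTop π W' G ^ m := by
  have := congrArg (rsV (π.left.preimage_mono h)) e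
  rw [rsV, rsV, map_mul, map_pow] at this
  rw [app_res h c, ← resTop_res h F, ← resTop_res h G]
  exact this

theorem resTop_res_eq {U W W' : X.left.Opens} (hWU : W ≤ U) (h : W' ≤ W) {F : Γ(V.left, ⊤)}
    {y : Γ(V.left, π.left ⁻¹ᵁ U)} {c : Γ(X.left, W)} {m : ℕ}
    (e : GLinSh.resTop π W F = π.left.app W c * GLinSh.res π hWU y ^ m) :
    GLinSh.resTop π W' F = π.left.app W' (rsX h c) * GLinSh.res π (h.trans hWU) y ^ m := by
  have := congrArg (rsV (π.left.preimage_mono h)) e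
  rw [rsV, rsV, map_mul, map_pow] at this
  rw [app_res h c, ← resTop_res h F]
  refine this.trans ?_
  rw [GLinSh.res, res_res]

/-- A section on the base times a power of `f` determines the section over the non-vanishing locus. -/
theorem eq_of_mul_eq (hf : GLinSh.HasWeight A.chart n f) {O : X.left.Opens} (hO : O ≤ nv A hf)
    {h h' : Γ(X.left, O)} (m : ℕ)
    (e : π.left.app O h * GLinSh.resTop π O f ^ m = π.left.app O h' * GLinSh.resTop π O f ^ m) : h = h' := by
  haveI := flat_π A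
  refine injective_appLE_of_flat π.left O (V.left.basicOpen f ⊓ π.left ⁻¹ᵁ O) inf_le_right (fun x hx => ?_) ?_
  · obtain ⟨v, hv, rfl⟩ := exists_mem_basicOpen A hf (hO hx)
    exact ⟨v, ⟨hv, hx⟩, rfl⟩
  · have e' := congrArg (rsV (inf_le_right : V.left.basicOpen f ⊓ π.left ⁻¹ᵁ O ≤ π.left ⁻¹ᵁ O)) e
    simp only [rsV, map_mul, map_pow] at e'
    have hu : IsUnit (V.left.presheaf.map (homOfLE (inf_le_right : V.left.basicOpen f ⊓ π.left ⁻¹ᵁ O ≤ _)).op
        (GLinSh.resTop π O f)) := by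
      rw [res_res, ← res_res (T := V.left) (O := ⊤) (V.left.basicOpen_le f) inf_le_left]
      exact (V.left.toRingedSpace.isUnit_res_basicOpen f).map _
    exact (hu.pow m).mul_right_cancel e'

theorem exists_div_aux (hf : GLinSh.HasWeight A.chart n f) {m : ℕ} {F : Γ(V.left, ⊤)}
    (hF : GLinSh.HasWeight A.chart (n * m) F) (x : X.left) (hx : x ∈ nv A hf) :
    ∃ (O : X.left.Opens) (h : Γ(X.left, O)), x ∈ O ∧ O ≤ nv A hf ∧
      GLinSh.resTop π O F = π.left.app O h * GLinSh.resTop π O f ^ m := by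
  obtain ⟨U, W, y, hy, hW, hxW, hWU, -⟩ := exists_affine_chart A x ⊤ (Opens.mem_top x)
  obtain ⟨c, hc⟩ := hf U y hy
  obtain ⟨d, hd⟩ := hF U y hy
  have e := nonvanishing_inter A hy hW hWU (resTop_eq hc hWU)
  have hOW : X.left.basicOpen (rsX hWU c) ≤ W := X.left.basicOpen_le _
  have hu : IsUnit (rsX (hOW.trans hWU) c) := by
    rw [show rsX (hOW.trans hWU) c = rsX hOW (rsX hWU c) from (res_res _ _ _).symm]
    exact X.left.toRingedSpace.isUnit_res_basicOpen _
  refine ⟨X.left.basicOpen (rsX hWU c), rsX (hOW.trans hWU) d * ((hu.unit⁻¹ : (Γ(X.left, _))ˣ) : Γ(X.left, _)) ^ m,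
    e.le ⟨hx, hxW⟩, fun z hz => (e.ge hz).1, ?_⟩
  rw [resTop_eq hc (hOW.trans hWU), resTop_eq hd (hOW.trans hWU), mul_pow, ← pow_mul, map_mul, map_pow]
  have hinv : π.left.app (X.left.basicOpen (rsX hWU c)) ((hu.unit⁻¹ : (Γ(X.left, _))ˣ) : Γ(X.left, _)) ^ m *
      π.left.app _ (rsX (hOW.trans hWU) c) ^ m = 1 := by
    rw [← mul_pow, ← map_mul, hu.val_inv_mul, map_one, one_pow]
  linear_combination (-(π.left.app (X.left.basicOpen (rsX hWU c)) (rsX (hOW.trans hWU) d) *
    GLinSh.res π (hOW.trans hWU) y ^ (n * m))) * hinv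

/-- `F / f ^ m` exists on the non-vanishing locus of `f`. -/
theorem exists_div (hf : GLinSh.HasWeight A.chart n f) {m : ℕ} {F : Γ(V.left, ⊤)}
    (hF : GLinSh.HasWeight A.chart (n * m) F) :
    ∃ h : Γ(X.left, nv A hf),
      GLinSh.resTop π (nv A hf) F = π.left.app _ h * GLinSh.resTop π (nv A hf) f ^ m := by
  choose O h hxO hO hh using fun x : {x : X.left // x ∈ nv A hf} => exists_div_aux A hf hF x.1 x.2
  have compat : TopCat.Presheaf.IsCompatible X.left.presheaf O h := by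
    intro x x'
    refine eq_of_mul_eq A hf (inf_le_left.trans (hO x)) m ?_
    exact (resTop_mul_eq (inf_le_left : O x ⊓ O x' ≤ O x) (hh x)).symm.trans
      (resTop_mul_eq (inf_le_right : O x ⊓ O x' ≤ O x') (hh x'))
  obtain ⟨g, hg, -⟩ := X.left.sheaf.existsUnique_gluing' O (nv A hf) (fun x => homOfLE (hO x))
    (fun x hx => Opens.mem_iSup.2 ⟨⟨x, hx⟩, hxO _⟩) h compat
  refine ⟨g, V.left.sheaf.eq_of_locally_eq' (fun x => π.left ⁻¹ᵁ O x) _
    (fun x => homOfLE (π.left.preimage_mono (hO x))) (fun v hv => Opens.mem_iSup.2 ⟨⟨π.left.base v, hv⟩, hxO _⟩) _ _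
    fun x => ?_⟩
  show rsV (π.left.preimage_mono (hO x)) (GLinSh.resTop π (nv A hf) F) =
    rsV (π.left.preimage_mono (hO x)) (π.left.app _ g * GLinSh.resTop π (nv A hf) f ^ m)
  simp only [rsV, map_mul, map_pow]
  change rsV _ (GLinSh.resTop π _ F) = rsV _ (π.left.app _ g) * rsV _ (GLinSh.resTop π _ f) ^ m
  rw [resTop_res (hO x), resTop_res (hO x), ← app_res (hO x), hh x]
  exact congrArg (fun z => π.left.app _ z * _) (hg x).symm

/-- The quotient `F / f ^ m`. -/
def quo (hf : GLinSh.HasWeight A.chart n f) {m : ℕ} {F : Γ(V.left, ⊤)}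
    (hF : GLinSh.HasWeight A.chart (n * m) F) : Γ(X.left, nv A hf) := (exists_div A hf hF).choose

theorem quo_spec (hf : GLinSh.HasWeight A.chart n f) {m : ℕ} {F : Γ(V.left, ⊤)}
    (hF : GLinSh.HasWeight A.chart (n * m) F) :
    GLinSh.resTop π (nv A hf) F = π.left.app _ (quo A hf hF) * GLinSh.resTop π (nv A hf) f ^ m :=
  (exists_div A hf hF).choose_spec

/-- `X_F ∩ X_f` is where `F / f ^ m` does not vanish. -/
theorem nonvanishing_inter_eq (hf : GLinSh.HasWeight A.chart n f) {m : ℕ} {F : Γ(V.left, ⊤)} {O : X.left.Opens}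
    (hO : O ≤ nv A hf) {h : Γ(X.left, O)}
    (e : GLinSh.resTop π O F = π.left.app O h * GLinSh.resTop π O f ^ m) :
    GLinSh.nonvanishing π F ∩ (O : Set X.left) = X.left.basicOpen h := by
  have hD : V.left.basicOpen F ⊓ π.left ⁻¹ᵁ O =
      π.left ⁻¹ᵁ X.left.basicOpen h ⊓ V.left.basicOpen (GLinSh.resTop π O f ^ m) := by
    rw [Scheme.preimage_basicOpen, ← Scheme.basicOpen_mul, ← e, GLinSh.resTop, Scheme.basicOpen_res, inf_comm]
  ext x
  constructor
  · rintro ⟨⟨v, hv, rfl⟩, hvO⟩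
    exact (hD.le ⟨hv, hvO⟩).1
  · intro hx
    have hxO : x ∈ O := X.left.basicOpen_le h hx
    obtain ⟨v, hv, hvx⟩ := exists_mem_basicOpen A hf (hO hxO)
    have hvO : v ∈ π.left ⁻¹ᵁ O := by show π.left.base v ∈ O; rwa [hvx]
    have hvf : v ∈ V.left.basicOpen (GLinSh.resTop π O f ^ m) := by
      rw [Scheme.mem_basicOpen _ _ v hvO, map_pow]
      refine IsUnit.pow _ ((Scheme.mem_basicOpen _ _ v hvO).1 ?_)
      rw [GLinSh.resTop, Scheme.basicOpen_res]
      exact ⟨hvO, hv⟩
    exact ⟨⟨v, (hD.ge ⟨show π.left.base v ∈ X.left.basicOpen h by rwa [hvx], hvf⟩).1, hvx⟩, hxO⟩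

/-- A weight can be checked locally in charts. -/
theorem hasWeight_of_local {N : ℕ} {F : Γ(V.left, ⊤)}
    (h : ∀ x : X.left, ∃ (U W : X.left.Opens) (y : Γ(V.left, π.left ⁻¹ᵁ U)) (hWU : W ≤ U) (d : Γ(X.left, W)),
      y ∈ A.chart U ∧ x ∈ W ∧ GLinSh.resTop π W F = π.left.app W d * GLinSh.res π hWU y ^ N) :
    GLinSh.HasWeight A.chart N F := by
  intro U' y' hy'
  choose U W y hWU d hy hxW hd using h
  have loc : ∀ x : {x : X.left // x ∈ U'}, ∃ e : Γ(X.left, W x.1 ⊓ U'),
      GLinSh.resTop π (W x.1 ⊓ U') F = π.left.app _ e * GLinSh.res π inf_le_right y' ^ N := by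
    intro x
    obtain ⟨c, hc, hcy⟩ := A.linear U' (U x.1) y' (y x.1) hy' (hy x.1)
    have hle : W x.1 ⊓ U' ≤ U' ⊓ U x.1 := le_inf inf_le_right (inf_le_left.trans (hWU x.1))
    have e1 := congrArg (rsV (π.left.preimage_mono hle)) hcy
    simp only [rsV, map_mul] at e1
    have e2 := resTop_res_eq (hWU x.1) (inf_le_left : W x.1 ⊓ U' ≤ W x.1) (hd x.1)
    refine ⟨rsX inf_le_left (d x.1) * rsX hle c ^ N, ?_⟩
    change rsV _ (GLinSh.res π _ (y x.1)) = rsV _ (π.left.app _ c) * rsV _ (GLinSh.res π _ y') at e1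
    rw [← app_res hle, rsV, rsV, GLinSh.res, GLinSh.res, res_res, res_res] at e1
    rw [GLinSh.res, e1, mul_pow, ← mul_assoc] at e2
    rw [map_mul, map_pow]
    exact e2
  choose e he using loc
  have compat : TopCat.Presheaf.IsCompatible X.left.presheaf (fun x : {x : X.left // x ∈ U'} => W x.1 ⊓ U') e := by
    intro x x'
    refine coeff_injective A hy' (inf_le_left.trans inf_le_right) (n := N) ?_
    exact (resTop_res_eq inf_le_right (inf_le_left : (W x.1 ⊓ U') ⊓ (W x'.1 ⊓ U') ≤ _) (he x)).symm.trans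
      (resTop_res_eq inf_le_right (inf_le_right : (W x.1 ⊓ U') ⊓ (W x'.1 ⊓ U') ≤ _) (he x'))
  obtain ⟨g, hg, -⟩ := X.left.sheaf.existsUnique_gluing' (fun x : {x : X.left // x ∈ U'} => W x.1 ⊓ U') U'
    (fun x => homOfLE inf_le_right) (fun x hx => Opens.mem_iSup.2 ⟨⟨x, hx⟩, hxW x, hx⟩) e compat
  refine ⟨g, V.left.sheaf.eq_of_locally_eq' (fun x : {x : X.left // x ∈ U'} => π.left ⁻¹ᵁ (W x.1 ⊓ U')) _
    (fun x => homOfLE (π.left.preimage_mono inf_le_right))
    (fun v hv => Opens.mem_iSup.2 ⟨⟨π.left.base v, hv⟩, hxW _, hv⟩) _ _ fun x => ?_⟩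
  show rsV (π.left.preimage_mono inf_le_right) (GLinSh.resTop π U' F) =
    rsV (π.left.preimage_mono inf_le_right) (π.left.app _ g * y' ^ N)
  simp only [rsV, map_mul, map_pow]
  change rsV _ (GLinSh.resTop π _ F) = rsV _ (π.left.app _ g) * rsV _ y' ^ N
  rw [resTop_res (inf_le_right : W x.1 ⊓ U' ≤ U'), ← app_res (inf_le_right : W x.1 ⊓ U' ≤ U'), he x]
  exact congrArg (fun z => π.left.app _ z * _) (hg x).symm

variable {g : Γ(V.left, ⊤)} {m : ℕ}

theorem hasWeight_mul (hf : GLinSh.HasWeight A.chart n f) (hg : GLinSh.HasWeight A.chart m g) :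
    GLinSh.HasWeight A.chart (n + m) (f * g) := fun U y hy => by
  obtain ⟨c, hc⟩ := hf U y hy
  obtain ⟨d, hd⟩ := hg U y hy
  exact ⟨c * d, by rw [GLinSh.resTop, map_mul, map_mul]; change GLinSh.resTop π U f * GLinSh.resTop π U g = _; rw [hc, hd, pow_add]; ring⟩

theorem hasWeight_add (hf : GLinSh.HasWeight A.chart n f) (hg : GLinSh.HasWeight A.chart n g) :
    GLinSh.HasWeight A.chart n (f + g) := fun U y hy => by
  obtain ⟨c, hc⟩ := hf U y hy
  obtain ⟨d, hd⟩ := hg U y hy
  exact ⟨c + d, by rw [GLinSh.resTop, map_add, map_add]; change GLinSh.resTop π U f + GLinSh.resTop π U g = _; rw [hc, hd]; ring⟩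

theorem hasWeight_zero : GLinSh.HasWeight A.chart n (0 : Γ(V.left, ⊤)) := fun U y _ =>
  ⟨0, by rw [GLinSh.resTop, map_zero, map_zero, zero_mul]⟩

theorem hasWeight_base (b : Γ(X.left, ⊤)) : GLinSh.HasWeight A.chart 0 (π.left.appTop b) := fun U y _ =>
  ⟨rsX le_top b, by rw [pow_zero, mul_one, app_res]; rfl⟩

theorem hasWeight_one : GLinSh.HasWeight A.chart 0 (1 : Γ(V.left, ⊤)) := by
  simpa using hasWeight_base A 1

theorem hasWeight_pow (hf : GLinSh.HasWeight A.chart n f) (j : ℕ) : GLinSh.HasWeight A.chart (n * j) (f ^ j) := by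
  induction j with
  | zero => simpa using hasWeight_one A
  | succ j ih => rw [pow_succ, Nat.mul_succ]; exact hasWeight_mul A ih hf

theorem nonvanishing_pow {j : ℕ} (hj : 0 < j) (f : Γ(V.left, ⊤)) :
    GLinSh.nonvanishing π (f ^ j) = GLinSh.nonvanishing π f := by
  exact congrArg (fun O : V.left.Opens => π.left.base '' (O : Set V.left)) (V.left.basicOpen_pow f hj)

include A in
theorem nonvanishing_mul (hf : GLinSh.HasWeight A.chart n f) (hg : GLinSh.HasWeight A.chart m g) :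
    GLinSh.nonvanishing π (f * g) = GLinSh.nonvanishing π f ∩ GLinSh.nonvanishing π g := by
  refine Set.Subset.antisymm ?_ fun x hx => ?_
  · rintro _ ⟨v, hv, rfl⟩
    rw [Scheme.basicOpen_mul] at hv
    exact ⟨⟨v, hv.1, rfl⟩, ⟨v, hv.2, rfl⟩⟩
  · obtain ⟨U, W, y, hy, hW, hxW, hWU, -⟩ := exists_affine_chart A x ⊤ (Opens.mem_top x)
    obtain ⟨c, hc⟩ := hf U y hy
    obtain ⟨d, hd⟩ := hg U y hy
    have hfg : GLinSh.resTop π W (f * g) = π.left.app W (rsX hWU c * rsX hWU d) * GLinSh.res π hWU y ^ (n + m) := by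
      have e1 := resTop_eq hc hWU
      have e2 := resTop_eq hd hWU
      rw [GLinSh.resTop, map_mul, map_mul]
      change GLinSh.resTop π W f * GLinSh.resTop π W g = _
      rw [e1, e2, pow_add]; ring
    have h1 := (nonvanishing_inter A hy hW hWU (resTop_eq hc hWU)).le ⟨hx.1, hxW⟩
    have h2 := (nonvanishing_inter A hy hW hWU (resTop_eq hd hWU)).le ⟨hx.2, hxW⟩
    refine ((nonvanishing_inter A hy hW hWU hfg).ge ?_).1
    rw [Scheme.basicOpen_mul]
    exact ⟨h1, h2⟩

theorem isUnit_resTop_basicOpen (f : Γ(V.left, ⊤)) :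
    IsUnit (rsV (V.left.basicOpen_le f) f) := V.left.toRingedSpace.isUnit_res_basicOpen f

/-- A function on the non-vanishing locus times a large power of `f` extends. -/
theorem exists_extend [CompactSpace X.left] [QuasiSeparatedSpace X.left]
    (hf : GLinSh.HasWeight A.chart n f) (h : Γ(X.left, nv A hf)) :
    ∃ (M : ℕ) (F : Γ(V.left, ⊤)), GLinSh.HasWeight A.chart (n * M) F ∧
      GLinSh.resTop π (nv A hf) F = π.left.app _ h * GLinSh.resTop π (nv A hf) f ^ M := by
  haveI := A.affine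
  haveI : CompactSpace V.left := QuasiCompact.compactSpace_of_compactSpace π.left
  haveI : QuasiSeparatedSpace V.left := quasiSeparatedSpace_of_quasiSeparated π.left
  have hle := basicOpen_le_nv A hf
  obtain ⟨m₀, F₀, hF₀⟩ := exists_eq_pow_mul_of_isCompact_of_isQuasiSeparated V.left ⊤ isCompact_univ
    ((quasiSeparatedSpace_iff _).1 inferInstance |> fun h => by simpa [IsQuasiSeparated] using h) f
    (π.left.appLE _ _ hle h)
  choose U W y hy hW hxW hWU _ using fun x : X.left => exists_affine_chart A x ⊤ (Opens.mem_top x)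
  obtain ⟨t, ht⟩ := isCompact_univ.elim_finite_subcover (fun x : X.left => (W x : Set X.left))
    (fun x => (W x).2) (fun x _ => Set.mem_iUnion.2 ⟨x, hxW x⟩)
  have loc : ∀ x : X.left, ∃ r₀ : ℕ, ∀ r ≥ r₀, ∃ d : Γ(X.left, W x),
      GLinSh.resTop π (W x) (f ^ r * F₀) = π.left.app (W x) d * GLinSh.res π (hWU x) (y x) ^ (n * (r + m₀)) := by
    intro x
    obtain ⟨c₀, hc₀⟩ := hf (U x) (y x) (hy x)
    have hc := resTop_eq hc₀ (hWU x)
    set c := rsX (hWU x) c₀
    have e := nonvanishing_inter A (hy x) (hW x) (hWU x) hc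
    have hOn : X.left.basicOpen c ≤ nv A hf := fun z hz => (e.ge hz).1
    haveI := (hW x).isLocalization_basicOpen c
    obtain ⟨⟨d, ⟨_, ⟨s, rfl⟩⟩⟩, hds⟩ := IsLocalization.surj (Submonoid.powers c) (rsX hOn h)
    dsimp only at hds
    rw [RingHom.algebraMap_toAlgebra] at hds
    change rsX hOn h * rsX (X.left.basicOpen_le c) (c ^ s) = rsX (X.left.basicOpen_le c) d at hds
    have hWp : IsAffineOpen (π.left ⁻¹ᵁ W x) := (hW x).preimage _
    have hzero : (π.left.app (W x) (c ^ s) * GLinSh.resTop π (W x) F₀ -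
        π.left.app (W x) d * GLinSh.resTop π (W x) f ^ m₀) |_ V.left.basicOpen (GLinSh.resTop π (W x) f) = 0 := by
      set O := V.left.basicOpen (GLinSh.resTop π (W x) f) with hOdef
      have hO : O = π.left ⁻¹ᵁ W x ⊓ V.left.basicOpen f := Scheme.basicOpen_res _ _ _
      have hOD : O ≤ V.left.basicOpen f := hO.le.trans inf_le_right
      have hOW : O ≤ π.left ⁻¹ᵁ W x := V.left.basicOpen_le _
      have hOc : O ≤ π.left ⁻¹ᵁ X.left.basicOpen c := fun v hv => e.le ⟨⟨v, hOD hv, rfl⟩, hOW hv⟩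
      have k0 : ∀ {P : X.left.Opens} (hP : O ≤ π.left ⁻¹ᵁ P) (z : Γ(X.left, P)),
          rsV hP (π.left.app P z) = π.left.appLE P O hP z := fun hP z => rfl
      have k1 : ∀ {P P' : X.left.Opens} (hPP : P' ≤ P) (hP : O ≤ π.left ⁻¹ᵁ P') (z : Γ(X.left, P)),
          π.left.appLE P' O hP (rsX hPP z) = π.left.appLE P O (hP.trans (π.left.preimage_mono hPP)) z := by
        intro P P' hPP hP z
        rw [rsX, ← CommRingCat.comp_apply, Scheme.Hom.map_appLE]
      have e1 : rsV hOW (GLinSh.resTop π (W x) F₀) = rsV (hOD.trans (V.left.basicOpen_le f)) f ^ m₀ *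
          π.left.appLE _ O (hOD.trans hle) h := by
        have := congrArg (rsV hOD) hF₀
        simp only [TopCat.Presheaf.restrictOpenCommRingCat_apply, rsV, map_mul, map_pow, res_res] at this
        rw [rsV, GLinSh.resTop, res_res]
        refine this.trans (congrArg (_ * ·) ?_)
        show (π.left.appLE _ _ hle ≫ V.left.presheaf.map (homOfLE hOD).op) h = _
        rw [Scheme.Hom.appLE_map]
      have e2 : π.left.appLE _ O (hOD.trans hle) h * π.left.appLE _ O hOW (c ^ s) = π.left.appLE _ O hOW d := by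
        have := congrArg (π.left.appLE _ O hOc) hds
        rw [map_mul, k1, k1, k1] at this
        exact this
      simp only [TopCat.Presheaf.restrictOpenCommRingCat_apply]
      show rsV hOW _ = 0
      rw [rsV, map_sub, map_mul, map_mul]
      change rsV hOW (π.left.app (W x) (c ^ s)) * rsV hOW (GLinSh.resTop π (W x) F₀) -
        rsV hOW (π.left.app (W x) d) * V.left.presheaf.map (homOfLE hOW).op (GLinSh.resTop π (W x) f ^ m₀) = 0
      rw [k0, k0, e1, ← e2, rsV, map_pow (V.left.presheaf.map (homOfLE hOW).op).hom, GLinSh.resTop, res_res]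
      ring
    obtain ⟨r₀, hr₀⟩ :=
      exists_pow_mul_eq_zero_of_res_basicOpen_eq_zero_of_isAffineOpen V.left hWp _ _ hzero
    refine ⟨r₀ + s, fun r hr => ?_⟩
    obtain ⟨j, rfl⟩ : ∃ j, r = r₀ + s + j := ⟨r - (r₀ + s), by omega⟩
    refine ⟨d * c ^ (r₀ + m₀) * c ^ j, ?_⟩
    have hz := sub_eq_zero.1 (mul_sub (GLinSh.resTop π (W x) f ^ r₀) _ _ ▸ hr₀)
    rw [GLinSh.resTop, map_mul, map_pow]
    change GLinSh.resTop π (W x) f ^ (r₀ + s + j) * GLinSh.resTop π (W x) F₀ = _
    set Y := GLinSh.res π (hWU x) (y x)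
    set P := GLinSh.resTop π (W x) F₀
    rw [hc] at hz ⊢
    simp only [map_mul, map_pow] at hz ⊢
    linear_combination (π.left.app (W x) c ^ j * Y ^ (n * (s + j))) * hz
  choose r₀ hr₀ using loc
  let r := t.sup r₀
  refine ⟨r + m₀, f ^ r * F₀, ?_, ?_⟩
  · refine hasWeight_of_local A fun x => ?_
    obtain ⟨x', hx't, hxW'⟩ := Set.mem_iUnion₂.1 (ht (Set.mem_univ x))
    obtain ⟨d, hd⟩ := hr₀ x' r (Finset.le_sup hx't)
    exact ⟨U x', W x', y x', hWU x', d, hy x', hxW', hd⟩
  · have hw : GLinSh.HasWeight A.chart (n * (r + m₀)) (f ^ r * F₀) := by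
      refine hasWeight_of_local A fun x => ?_
      obtain ⟨x', hx't, hxW'⟩ := Set.mem_iUnion₂.1 (ht (Set.mem_univ x))
      obtain ⟨d, hd⟩ := hr₀ x' r (Finset.le_sup hx't)
      exact ⟨U x', W x', y x', hWU x', d, hy x', hxW', hd⟩
    have hq := quo_spec A hf hw
    suffices hh : quo A hf hw = h by rwa [hh] at hq
    haveI := flat_π A
    refine injective_appLE_of_flat π.left _ (V.left.basicOpen f) hle (fun x hx => exists_mem_basicOpen A hf hx) ?_
    have e1 := congrArg (rsV hle) hq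
    simp only [GLinSh.resTop, rsV, map_mul, map_pow, res_res] at e1
    simp only [TopCat.Presheaf.restrictOpenCommRingCat_apply] at hF₀
    rw [hF₀] at e1
    refine ((isUnit_resTop_basicOpen f).pow (r + m₀)).mul_right_cancel ?_
    simp only [rsV, Scheme.Hom.appLE, CommRingCat.comp_apply] at e1 ⊢
    rw [pow_add] at e1 ⊢
    linear_combination -e1

end Groth.L14.GITLin
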