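import Groth.Agent.L14.GITLin.Stable
import Groth.Agent.L18.ProjFinAffine

/-!
# One section for finitely many semi-stable or stable points
-/

set_option autoImplicit false
set_option linter.style.haveILetI false
set_option backward.isDefEq.respectTransparency false
set_option backward.isDefEq.respectTransparency.types false
set_option maxHeartbeats 1000000

noncomputable section

universe u

open CategoryTheory MonoidalCategory CartesianMonoidalCategory MonObj AlgebraicGeometry TopologicalSpace Opposite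

namespace Groth.L14.GITLin

variable {k : Type u} [Field k]

attribute [local instance] secAlg

variable {G X : Over (Spec (CommRingCat.of k))} [GrpObj G] {a : AlgGrp.Action G X} {B : GLinSh.LinBun G a}

theorem restrict_action (W : X.left.Opens) (hW : a.act.left ⁻¹ᵁ W = (snd G X).left ⁻¹ᵁ W) :
    ∃ aW : AlgGrp.Action G (Over.mk (W.ι ≫ X.hom)),
      aW.act ≫ (Over.homMk W.ι rfl : Over.mk (W.ι ≫ X.hom) ⟶ X) =
        (G ◁ (Over.homMk W.ι rfl : Over.mk (W.ι ≫ X.hom) ⟶ X)) ≫ a.act := by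
  let j : Over.mk (W.ι ≫ X.hom) ⟶ X := Over.homMk W.ι rfl
  haveI : IsOpenImmersion j.left := inferInstanceAs (IsOpenImmersion W.ι)
  haveI : Mono j := Over.mono_of_mono_left j
  have hr : Set.range ((G ◁ j) ≫ a.act).left.base ⊆ Set.range j.left.base := by
    rintro _ ⟨z, rfl⟩
    refine (Scheme.Opens.range_ι W).ge ?_
    show (G ◁ j).left.base z ∈ a.act.left ⁻¹ᵁ W
    rw [hW]
    show ((G ◁ j) ≫ snd G X).left.base z ∈ W
    rw [whiskerLeft_snd]
    exact ((snd G (Over.mk (W.ι ≫ X.hom))).left.base z).2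
  let act : G ⊗ Over.mk (W.ι ≫ X.hom) ⟶ Over.mk (W.ι ≫ X.hom) :=
    Over.homMk (IsOpenImmersion.lift j.left ((G ◁ j) ≫ a.act).left hr) (by
      rw [← Over.w j, IsOpenImmersion.lift_fac_assoc]
      exact Over.w ((G ◁ j) ≫ a.act))
  have h : act ≫ j = (G ◁ j) ≫ a.act := Over.OverMorphism.ext (IsOpenImmersion.lift_fac _ _ _)
  refine ⟨⟨act, ?_, ?_⟩, h⟩
  · rw [← cancel_mono j, Category.assoc, h, ← whisker_exchange_assoc, a.one_act]
    exact leftUnitor_naturality j
  · rw [← cancel_mono j]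
    simp only [Category.assoc, h]
    rw [← whisker_exchange_assoc, a.mul_act, ← MonoidalCategory.whiskerLeft_comp_assoc G act, h,
      MonoidalCategory.whiskerLeft_comp_assoc, ← associator_naturality_right_assoc]

variable {N : ℕ} {J : Type u} {f : J → Γ(B.V.left, ⊤)} (hf : ∀ i, B.IsInvSection (N * 1) (f i))

/-- A homogeneous combination of the sections vanishes where they all do. -/
theorem nonvanishing_subset_of_mem_span {K : Type u} (q : K → J) {p : secRing B N}
    (hp : p ∈ Ideal.span (Set.range fun i => mkDeg (hf (q i)))) :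
    GLinSh.nonvanishing B.π (evalOn B N ⊤ p) ⊆ ⋃ i, (loc (hf (q i)) : Set X.left) := by
  rintro _ ⟨v, hv, rfl⟩
  by_contra hne
  have hall : ∀ i, v ∉ B.V.left.basicOpen (f (q i)) := fun i hi => hne (Set.mem_iUnion.2 ⟨i, v, hi, rfl⟩)
  let P : Ideal (secRing B N) := (IsLocalRing.maximalIdeal (B.V.left.presheaf.stalk v)).comap
    ((B.V.left.presheaf.germ ⊤ v trivial).hom.comp (evalOn B N ⊤))
  have hle : Ideal.span (Set.range fun i => mkDeg (hf (q i))) ≤ P := by
    rw [Ideal.span_le]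
    rintro _ ⟨i, rfl⟩
    refine (IsLocalRing.mem_maximalIdeal _).2 fun hu => hall i ?_
    rw [RingHom.comp_apply, evalOn_mkDeg, rsV, res_self] at hu
    exact (Scheme.mem_basicOpen _ _ v (Opens.mem_top v)).2 hu
  exact (IsLocalRing.mem_maximalIdeal _).1 (hle hp) ((Scheme.mem_basicOpen _ _ v (Opens.mem_top v)).1 hv)

/-- **One section at finitely many points.** -/
theorem exists_section_at_finset [CharZero k] (hG : Red.IsReductive G) [LocallyOfFiniteType X.hom] [QuasiCompact X.hom]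
    (s : Finset X.left) (hs : ∀ x ∈ s, B.IsSemistablePt x) :
    ∃ (n : ℕ) (F : Γ(B.V.left, ⊤)) (Uf : X.left.Opens), 1 ≤ n ∧ B.IsInvSection n F ∧
      (Uf : Set X.left) = GLinSh.nonvanishing B.π F ∧ IsAffineOpen Uf ∧ (∀ x ∈ s, x ∈ Uf) ∧
      ((∀ x ∈ s, B.IsStablePt x) → GLinSh.ClosedOrbitsOn a Uf) := by
  classical
  -- the sections at the given points
  have hsel : ∀ x : s, ∃ (n : ℕ) (g : Γ(B.V.left, ⊤)) (W : X.left.Opens), 1 ≤ n ∧ B.IsInvSection n g ∧
      (W : Set X.left) = GLinSh.nonvanishing B.π g ∧ IsAffineOpen W ∧ x.1 ∈ W ∧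
      ((∀ x ∈ s, B.IsStablePt x) → GLinSh.ClosedOrbitsOn a W) := by
    intro x
    by_cases hst : ∀ x ∈ s, B.IsStablePt x
    · obtain ⟨n, g, hn, hg, hx, W, hW, haff, hcl⟩ := hst x.1 x.2
      exact ⟨n, g, W, hn, hg, hW, haff, hW.ge hx, fun _ => hcl⟩
    · obtain ⟨n, g, hn, hg, hx, W, hW, haff⟩ := hs x.1 x.2
      exact ⟨n, g, W, hn, hg, hW, haff, hW.ge hx, fun h => (hst h).elim⟩
  choose n' g' W' hn' hg' hW' haff' hx' hcl' using hsel
  -- the semi-stable locus is open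
  have hopen : IsOpen B.ssLocus := by
    refine isOpen_iff_forall_mem_open.2 fun x hx => ?_
    obtain ⟨n, g, hn, hg, hxg, W, hW, haff⟩ := hx
    exact ⟨W, fun z hz => ⟨n, g, hn, hg, hW.le hz, W, hW, haff⟩, W.2, hW.ge hxg⟩
  obtain ⟨N, J, _, f, hf, q, hN, haff, hdom, hq⟩ := exists_data_with ⟨_, hopen⟩ rfl n' g' W' hn' hg' hW' haff'
  -- the restricted action on the semi-stable locus
  have hdinv : a.act.left ⁻¹ᵁ dom hf = (snd G X).left ⁻¹ᵁ dom hf := by
    rw [dom, Scheme.Hom.preimage_iSup, Scheme.Hom.preimage_iSup]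
    exact iSup_congr fun i => preimage_nv (hf i).1 (hf i).2
  obtain ⟨aU, haU⟩ := restrict_action (dom hf) hdinv
  obtain ⟨hu, haffφ, hsub, -, -⟩ := quotPhi_spec hf aU _ rfl haU hG haff
  -- the points in the projective spectrum
  have hxdom : ∀ x : s, x.1 ∈ dom hf := fun x => le_dom hf (q x) ((hq x).ge (hx' x))
  let pt : s → ProjectiveSpectrum (deg B N) := fun x => (phiProj hf).base ⟨x.1, hxdom x⟩
  have hpt : ∀ (x : s) {e : ℕ} {g : Γ(B.V.left, ⊤)} (hg : B.IsInvSection (N * e) g), 0 < e →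
      (mkDeg hg ∉ (pt x).asHomogeneousIdeal.toIdeal ↔ x.1 ∈ loc hg) := fun x {e g} hg he =>
    SetLike.ext_iff.1 (phiProj_preimage hg hf he) ⟨x.1, hxdom x⟩
  let I : HomogeneousIdeal (deg B N) := ⟨Ideal.span (Set.range fun i => mkDeg (hf (q i))),
    Ideal.homogeneous_span (deg B N) _ (by rintro _ ⟨i, rfl⟩; exact ⟨1, mkDeg_mem _⟩)⟩
  obtain ⟨m, p, hm, hpm, hpI, hp⟩ := Groth.L18.ProjAvoid.exists_homogeneous_mem_avoiding (deg B N) I
    (Finset.univ.image pt) fun y hy hle => by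
      obtain ⟨x, -, rfl⟩ := Finset.mem_image.1 hy
      exact (hpt x (hf (q x)) Nat.one_pos).2 ((hq x).ge (hx' x)) (hle (Ideal.subset_span ⟨x, rfl⟩))
  let g := p.1.coeff m
  have hg : B.IsInvSection (N * m) g := p.2 m
  have hgp : mkDeg hg = p := Subtype.ext (eq_monomial hpm).symm
  have hnv : GLinSh.nonvanishing B.π g ⊆ ⋃ i, (loc (hf (q i)) : Set X.left) := by
    have := nonvanishing_subset_of_mem_span hf q hpI
    rwa [evalOn_of_mem hpm, rsV, res_self] at this
  have hgdom : loc hg ≤ dom hf := fun z hz => by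
    obtain ⟨i, hi⟩ := Set.mem_iUnion.1 (hnv hz)
    exact le_dom hf (q i) hi
  have hgt : Proj.basicOpen (deg B N) (mkDeg hg) ≤ (target hf).ι.opensRange := by
    rw [Scheme.Opens.opensRange_ι]
    intro y hy
    by_contra hyt
    refine (Proj.mem_basicOpen (deg B N) _ y).1 hy (hgp ▸ ?_)
    refine Ideal.span_le.2 ?_ hpI
    rintro _ ⟨i, rfl⟩
    by_contra hi
    exact hyt (Opens.mem_iSup.2 ⟨q i, (Proj.mem_basicOpen (deg B N) _ y).2 hi⟩)
  have haffg : IsAffineOpen (loc hg) := by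
    have h1 : IsAffineOpen ((quotPhi hf).left ⁻¹ᵁ ((target hf).ι ⁻¹ᵁ Proj.basicOpen (deg B N) (mkDeg hg))) :=
      haveI := haffφ
      ((Proj.isAffineOpen_basicOpen (deg B N) _ (mkDeg_mem hg) hm).preimage_of_isOpenImmersion _ hgt).preimage _
    rw [quotPhi_preimage hf hg hm] at h1
    have h2 : IsAffineOpen ((dom hf).ι ''ᵁ ((dom hf).ι ⁻¹ᵁ loc hg)) := h1.image_of_isOpenImmersion _
    rwa [Scheme.Hom.image_preimage_eq_opensRange_inf, Scheme.Opens.opensRange_ι, inf_eq_right.2 hgdom] at h2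
  refine ⟨N * m, g, loc hg, Nat.mul_pos hN hm, hg, rfl, haffg, fun x hx => ?_, fun hst => ?_⟩
  · exact (hpt ⟨x, hx⟩ hg hm).1 (hgp.symm ▸ hp _ (Finset.mem_image_of_mem pt (Finset.mem_univ _)))
  · let Us : X.left.Opens := ⨆ i, loc (hf (q i))
    have hle : Us ≤ dom hf := iSup_le fun i => le_dom hf (q i)
    have hinv : a.act.left ⁻¹ᵁ Us = (snd G X).left ⁻¹ᵁ Us := by
      show a.act.left ⁻¹ᵁ (⨆ i, loc (hf (q i))) = _
      rw [Scheme.Hom.preimage_iSup, Scheme.Hom.preimage_iSup]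
      exact iSup_congr fun i => preimage_nv (hf (q i)).1 (hf (q i)).2
    obtain ⟨aS, haS⟩ := restrict_action Us hinv
    obtain ⟨φs, -, -, hgeo⟩ := exists_geomQuot_of_pieces hG (dom hf) aU _ rfl haU hu hsub Us hle aS _ rfl haS
      (fun i => (target hf).ι ⁻¹ᵁ Proj.basicOpen (deg B N) (mkDeg (hf (q i)))) (fun i => loc (hf (q i)))
      (fun i => haff (q i)) (fun i => by rw [hq i]; exact hcl' i hst)
      (fun i => quotPhi_preimage hf (hf (q i)) Nat.one_pos) rfl
    haveI : IsSeparated (Over.mk ((⨆ i, (target hf).ι ⁻¹ᵁ Proj.basicOpen (deg B N) (mkDeg (hf (q i)))).ι ≫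
        (quotY hf).hom)).hom :=
      inferInstanceAs (IsSeparated ((⨆ i, (target hf).ι ⁻¹ᵁ Proj.basicOpen (deg B N) (mkDeg (hf (q i)))).ι ≫
        (quotY hf).hom))
    refine closedOrbitsOn_of_isClosedAction (Over.homMk Us.ι rfl : Over.mk (Us.ι ≫ X.hom) ⟶ X) haS
      (Groth.L14.GITAff.isClosedAction_of_isGeomQuot aS φs hgeo.1) (loc hg) ?_
    intro z hz
    obtain ⟨i, hi⟩ := Set.mem_iUnion.1 (hnv hz)
    exact (Scheme.Opens.range_ι Us).ge (Opens.mem_iSup.2 ⟨i, hi⟩)

end Groth.L14.GITLin
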