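import Groth.Agent.L14.GITLin.Glue
import Groth.Agent.L14.GITAff.ClosedAction
import Groth.Prelude.Def_GLinSh

/-!
# Open pieces with closed orbits give a geometric quotient
-/

set_option autoImplicit false
set_option linter.style.haveILetI false
set_option backward.isDefEq.respectTransparency false
set_option backward.isDefEq.respectTransparency.types false

noncomputable section

universe u

open CategoryTheory MonoidalCategory CartesianMonoidalCategory MonObj AlgebraicGeometry TopologicalSpace Opposite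

namespace Groth.L14.GITLin

section General

variable {S : Scheme.{u}} {G X X' : Over S} [GrpObj G] {a : AlgGrp.Action G X} {a' : AlgGrp.Action G X'} (j : X' ⟶ X)

theorem isPullback_whiskerRight (T : Over S) : IsPullback (j ▷ T).left (fst X' T).left (fst X T).left j.left := by
  have h1 : IsPullback (snd X T).left (fst X T).left T.hom X.hom := (IsPullback.of_hasPullback X.hom T.hom).flip
  have h2 : IsPullback (snd X' T).left (fst X' T).left T.hom X'.hom := (IsPullback.of_hasPullback X'.hom T.hom).flip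
  refine IsPullback.of_right ?_ (congrArg CommaMorphism.left (whiskerRight_fst j T)) h1
  rw [show (j ▷ T).left ≫ (snd X T).left = (snd X' T).left from congrArg CommaMorphism.left (whiskerRight_snd j T),
    Over.w j]
  exact h2

theorem isOpenImmersion_whiskerRight [IsOpenImmersion j.left] (T : Over S) : IsOpenImmersion (j ▷ T).left :=
  MorphismProperty.of_isPullback (P := @IsOpenImmersion) (isPullback_whiskerRight j T).flip inferInstance

theorem mem_range_whiskerRight (T : Over S) (z : (X ⊗ T).left) (hz : (fst X T).left.base z ∈ Set.range j.left.base) :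
    z ∈ Set.range (j ▷ T).left.base := by
  obtain ⟨x, hx⟩ := hz
  obtain ⟨w, hw, -⟩ := Groth.L14.GITAff.exists_preimage_isPullback (isPullback_whiskerRight j T) z x hx.symm
  exact ⟨w, hw⟩

variable (hc : a'.act ≫ j = (G ◁ j) ≫ a.act)

include hc in
theorem psi_whiskerRight {T : Over S} (f : T ⟶ X') : GIT.psi a' f ≫ (j ▷ T) = GIT.psi a (f ≫ j) := by
  refine CartesianMonoidalCategory.hom_ext _ _ ?_ ?_
  · simp [GIT.psi, hc]
  · simp [GIT.psi]

include hc in
/-- Closed orbits of a restricted action give closed orbits on smaller opens. -/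
theorem closedOrbitsOn_of_isClosedAction [IsOpenImmersion j.left] (h : GIT.IsClosedAction a') (W : X.left.Opens)
    (hW : (W : Set X.left) ⊆ Set.range j.left.base) : GLinSh.ClosedOrbitsOn a W := by
  intro Ω _ _ T eT f hf
  let f' : T ⟶ X' := Over.homMk (IsOpenImmersion.lift j.left f.left (hf.trans hW)) (by
    rw [← Over.w j, IsOpenImmersion.lift_fac_assoc, Over.w f])
  have hf' : f' ≫ j = f := Over.OverMorphism.ext (IsOpenImmersion.lift_fac _ _ _)
  haveI := isOpenImmersion_whiskerRight j T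
  have he : Topology.IsEmbedding (j ▷ T).left.base := (j ▷ T).left.isOpenEmbedding.isEmbedding
  obtain ⟨C, hC, hCe⟩ := he.isInducing.isClosed_iff.1 (h Ω T eT f')
  have e : Set.range (GIT.psi a f).left.base = (j ▷ T).left.base '' Set.range (GIT.psi a' f').left.base := by
    rw [← hf', ← psi_whiskerRight j hc f', ← Set.range_comp]
    rfl
  have e2 : (fun p : (fst X T).left ⁻¹ᵁ W => (p : (X ⊗ T).left)) ⁻¹' Set.range (GIT.psi a f).left.base =
      (fun p : (fst X T).left ⁻¹ᵁ W => (p : (X ⊗ T).left)) ⁻¹' C := by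
    ext p
    obtain ⟨w, hw⟩ := mem_range_whiskerRight j T p.1 (hW p.2)
    rw [Set.mem_preimage, Set.mem_preimage, e, ← hw, he.injective.mem_set_image, ← hCe, Set.mem_preimage]
  rw [e2]
  exact hC.preimage continuous_subtype_val

include hc in
/-- Closed orbits on the image give a closed restricted action. -/
theorem isClosedAction_of_closedOrbitsOn [IsOpenImmersion j.left] (W : X.left.Opens)
    (hW : Set.range j.left.base = W) (h : GLinSh.ClosedOrbitsOn a W) : GIT.IsClosedAction a' := by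
  intro Ω _ _ T eT f'
  haveI := isOpenImmersion_whiskerRight j T
  have hcl := h Ω T eT (f' ≫ j) (by
    rintro _ ⟨z, rfl⟩
    exact hW.le ⟨f'.left.base z, rfl⟩)
  have hmem : ∀ w : (X' ⊗ T).left, (j ▷ T).left.base w ∈ (fst X T).left ⁻¹ᵁ W := fun w => by
    show ((j ▷ T) ≫ fst X T).left.base w ∈ W
    rw [whiskerRight_fst]
    exact hW.le ⟨(fst X' T).left.base w, rfl⟩
  let u : (X' ⊗ T).left → (fst X T).left ⁻¹ᵁ W := fun w => ⟨(j ▷ T).left.base w, hmem w⟩
  have hu : Continuous u := (j ▷ T).left.continuous.subtype_mk hmem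
  have e : Set.range (GIT.psi a' f').left.base =
      u ⁻¹' ((fun p : (fst X T).left ⁻¹ᵁ W => (p : (X ⊗ T).left)) ⁻¹' Set.range (GIT.psi a (f' ≫ j)).left.base) := by
    rw [← psi_whiskerRight j hc f']
    ext w
    constructor
    · rintro ⟨q, rfl⟩; exact ⟨q, rfl⟩
    · rintro ⟨q, hq⟩
      exact ⟨q, (j ▷ T).left.isOpenEmbedding.injective hq⟩
  rw [e]
  exact hcl.preimage hu

end General

variable {k : Type u} [Field k] [CharZero k] {G X : Over (Spec (CommRingCat.of k))} [GrpObj G]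
  {a : AlgGrp.Action G X}

/-- The affine pieces of a universal categorical quotient are affine downstairs. -/
theorem isAffine_of_isUnivCatQuot (hG : Red.IsReductive G) {X' Y' : Over (Spec (CommRingCat.of k))} [IsAffine X'.left]
    {a' : AlgGrp.Action G X'} {φ' : X' ⟶ Y'} (h : GIT.IsUnivCatQuot a' φ') : IsAffine Y'.left := by
  obtain ⟨Y₀, φ₀, hY₀, -, -, hu₀, -, -, -⟩ := Groth.L14.GITAff.exists_univCatQuot_affine G X' hG a'
  obtain ⟨u, hu, -⟩ := h.1.2 Y₀ φ₀ hu₀.1.1
  obtain ⟨v, hv, -⟩ := hu₀.1.2 Y' φ' h.1.1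
  have e1 : u ≫ v = 𝟙 Y' := (h.1.2 Y' φ' h.1.1).unique
    (by show φ' ≫ u ≫ v = φ'; rw [← Category.assoc, hu, hv]) (Category.comp_id _)
  have e2 : v ≫ u = 𝟙 Y₀ := (hu₀.1.2 Y₀ φ₀ hu₀.1.1).unique
    (by show φ₀ ≫ v ≫ u = φ₀; rw [← Category.assoc, hv, hu]) (Category.comp_id _)
  haveI : IsIso u := ⟨v, e1, e2⟩
  haveI : IsIso u.left := inferInstanceAs (IsIso ((Over.forget _).map u))
  haveI := hY₀
  exact IsAffine.of_isIso u.left

/-- **Geometric quotient from pieces with closed orbits.** -/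
theorem exists_geomQuot_of_pieces (hG : Red.IsReductive G) (U : X.left.Opens)
    (aU : AlgGrp.Action G (Over.mk (U.ι ≫ X.hom)))
    (jU : Over.mk (U.ι ≫ X.hom) ⟶ X) (hjU : jU.left = U.ι) (haU : aU.act ≫ jU = (G ◁ jU) ≫ a.act)
    {Y : Over (Spec (CommRingCat.of k))} {φ : Over.mk (U.ι ≫ X.hom) ⟶ Y} (hφ : GIT.IsUnivCatQuot aU φ)
    (hs : GIT.IsUnivSubmersive φ.left) (Us : X.left.Opens) (hle : Us ≤ U)
    (aS : AlgGrp.Action G (Over.mk (Us.ι ≫ X.hom)))
    (jS : Over.mk (Us.ι ≫ X.hom) ⟶ X) (hjS : jS.left = Us.ι) (haS : aS.act ≫ jS = (G ◁ jS) ≫ a.act)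
    {K : Type u} (D : K → Y.left.Opens) (W : K → X.left.Opens) (haff : ∀ i, IsAffineOpen (W i))
    (hcl : ∀ i, GLinSh.ClosedOrbitsOn a (W i)) (hpre : ∀ i, φ.left ⁻¹ᵁ D i = U.ι ⁻¹ᵁ W i) (hUs : Us = ⨆ i, W i) :
    ∃ φs : Over.mk (Us.ι ≫ X.hom) ⟶ Over.mk ((⨆ i, D i).ι ≫ Y.hom),
      φs.left ≫ (⨆ i, D i).ι = X.left.homOfLE hle ≫ φ.left ∧
      φ.left ⁻¹ᵁ (⨆ i, D i) = U.ι ⁻¹ᵁ Us ∧
      GIT.IsUnivGeomQuot aS φs := by
  set Yt : Y.left.Opens := ⨆ i, D i with hYt
  have hY : φ.left ⁻¹ᵁ Yt = U.ι ⁻¹ᵁ Us := by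
    rw [hYt, hUs, Scheme.Hom.preimage_iSup, Scheme.Hom.preimage_iSup]
    exact iSup_congr hpre
  have hr : Set.range (X.left.homOfLE hle ≫ φ.left).base ⊆ Set.range Yt.ι.base := by
    rintro _ ⟨z, rfl⟩
    refine (Scheme.Opens.range_ι _).ge (?_ : (X.left.homOfLE hle).base z ∈ φ.left ⁻¹ᵁ Yt)
    rw [hY]
    show (X.left.homOfLE hle ≫ U.ι).base z ∈ Us
    rw [Scheme.homOfLE_ι]
    exact z.2
  let Ys : Over (Spec (CommRingCat.of k)) := Over.mk (Yt.ι ≫ Y.hom)
  let jY : Ys ⟶ Y := Over.homMk Yt.ι rfl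
  let jUS : Over.mk (Us.ι ≫ X.hom) ⟶ Over.mk (U.ι ≫ X.hom) := Over.homMk (X.left.homOfLE hle) (by
    show X.left.homOfLE hle ≫ U.ι ≫ X.hom = Us.ι ≫ X.hom
    rw [Scheme.homOfLE_ι_assoc])
  let φs : Over.mk (Us.ι ≫ X.hom) ⟶ Ys := Over.homMk (IsOpenImmersion.lift Yt.ι (X.left.homOfLE hle ≫ φ.left) hr) (by
    show IsOpenImmersion.lift Yt.ι _ _ ≫ Yt.ι ≫ Y.hom = Us.ι ≫ X.hom
    rw [IsOpenImmersion.lift_fac_assoc, Category.assoc, Over.w φ]
    exact Scheme.homOfLE_ι_assoc _ _ _)
  have hfac : φs.left ≫ Yt.ι = X.left.homOfLE hle ≫ φ.left := IsOpenImmersion.lift_fac _ _ _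
  haveI : IsOpenImmersion jY.left := inferInstanceAs (IsOpenImmersion Yt.ι)
  haveI : IsOpenImmersion jUS.left := inferInstanceAs (IsOpenImmersion (X.left.homOfLE hle))
  haveI : IsOpenImmersion jU.left := by rw [hjU]; infer_instance
  have hsq : jUS ≫ φ = φs ≫ jY := Over.OverMorphism.ext hfac.symm
  have hpb : IsPullback jUS φs φ jY := by
    refine Groth.L18.GITQ.isPullback_over hsq ?_
    refine (IsOpenImmersion.isPullback _ _ _ _ hfac.symm ?_).flip
    show φ.left ⁻¹ᵁ Yt.ι.opensRange = (X.left.homOfLE hle).opensRange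
    rw [Scheme.Opens.opensRange_ι, Scheme.opensRange_homOfLE, hY]
  haveI : Mono jU := Over.mono_of_mono_left jU
  have hjUS : jUS ≫ jU = jS := Over.OverMorphism.ext (by
    show X.left.homOfLE hle ≫ jU.left = jS.left
    rw [hjU, hjS, Scheme.homOfLE_ι])
  have hcompat : aS.act ≫ jUS = (G ◁ jUS) ≫ aU.act := by
    rw [← cancel_mono jU, Category.assoc, Category.assoc, hjUS, haS, haU,
      ← MonoidalCategory.whiskerLeft_comp_assoc, hjUS]
  haveI : Mono jY := Over.mono_of_mono_left jY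
  have hinv : GIT.IsInvariant aS φs := by
    rw [GIT.IsInvariant, ← cancel_mono jY, Category.assoc, Category.assoc, ← hsq, reassoc_of% hcompat, hφ.1.1,
      whiskerLeft_snd_assoc]
  have huq := Groth.L18.GITQ.isUnivCatQuot_baseChange hφ hpb hcompat hinv
  have hsub : GIT.IsUnivSubmersive φs.left :=
    MorphismProperty.of_isPullback (P := MorphismProperty.universally _) (hpb.map (Over.forget _)) hs
  refine ⟨φs, hfac, hY, Groth.L18.GITQ.isUnivGeomQuot_of_isUnivCatQuot huq hsub fun z => ?_⟩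
  -- surjectivity of the orbit map over a piece
  obtain ⟨i, hi⟩ := Opens.mem_iSup.1 ((Limits.pullback.fst φs.left φs.left ≫ φs.left).base z : Yt).2
  let Xk : Over (Spec (CommRingCat.of k)) := Over.mk ((W i).ι ≫ X.hom)
  let Yk : Over (Spec (CommRingCat.of k)) := Over.mk ((D i).ι ≫ Y.hom)
  have hWU : W i ≤ Us := hUs ▸ le_iSup W i
  have hDY : D i ≤ Yt := le_iSup D i
  let jk : Xk ⟶ Over.mk (Us.ι ≫ X.hom) := Over.homMk (X.left.homOfLE hWU) (by
    show X.left.homOfLE hWU ≫ Us.ι ≫ X.hom = (W i).ι ≫ X.hom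
    rw [Scheme.homOfLE_ι_assoc])
  let jDk : Yk ⟶ Ys := Over.homMk (Y.left.homOfLE hDY) (by
    show Y.left.homOfLE hDY ≫ Yt.ι ≫ Y.hom = (D i).ι ≫ Y.hom
    rw [Scheme.homOfLE_ι_assoc])
  have hpre' : ∀ w : (Us : X.left.Opens), (φs.left.base w).1 ∈ D i ↔ w.1 ∈ W i := fun w => by
    have e1 : (φs.left.base w).1 = φ.left.base ((X.left.homOfLE hle).base w) :=
      congrArg (fun q : Us.toScheme ⟶ Y.left => q.base w) hfac
    have e2 : U.ι.base ((X.left.homOfLE hle).base w) = w.1 :=
      congrArg (fun q : Us.toScheme ⟶ X.left => q.base w) (Scheme.homOfLE_ι X.left hle)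
    rw [e1, ← e2]
    exact SetLike.ext_iff.1 (hpre i) _
  haveI : IsOpenImmersion jDk.left := inferInstanceAs (IsOpenImmersion (Y.left.homOfLE hDY))
  have hrk : Set.range (jk ≫ φs).left.base ⊆ Set.range jDk.left.base := by
    rintro _ ⟨w, rfl⟩
    have : φs.left.base ((X.left.homOfLE hWU).base w) ∈ Yt.ι ⁻¹ᵁ D i := by
      refine (hpre' _).2 ?_
      rw [Scheme.homOfLE_apply]
      exact w.2
    rw [← Scheme.opensRange_homOfLE hDY] at this
    exact this
  let φk : Xk ⟶ Yk := Over.homMk (IsOpenImmersion.lift jDk.left (jk ≫ φs).left hrk) (by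
    rw [← Over.w jDk, IsOpenImmersion.lift_fac_assoc, Over.w (jk ≫ φs)])
  have hsqk : jk ≫ φs = φk ≫ jDk := Over.OverMorphism.ext (IsOpenImmersion.lift_fac _ _ _).symm
  haveI : IsOpenImmersion jk.left := inferInstanceAs (IsOpenImmersion (X.left.homOfLE hWU))
  have hpbk : IsPullback jk φk φs jDk := by
    refine Groth.L18.GITQ.isPullback_over hsqk ?_
    refine (IsOpenImmersion.isPullback _ _ _ _ (congrArg CommaMorphism.left hsqk) ?_).flip
    show φs.left ⁻¹ᵁ (Y.left.homOfLE hDY).opensRange = (X.left.homOfLE hWU).opensRange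
    rw [Scheme.opensRange_homOfLE, Scheme.opensRange_homOfLE]
    exact Opens.ext (Set.ext hpre')
  obtain ⟨ak, hak, hik⟩ := Groth.L18.GITQ.exists_baseChange_action aS hinv hpbk
  have huk := Groth.L18.GITQ.isUnivCatQuot_baseChange huq hpbk hak hik
  haveI : IsAffine Xk.left := haff i
  haveI : IsAffine Yk.left := isAffine_of_isUnivCatQuot hG huk
  let jjk : Xk ⟶ X := jk ≫ jS
  have hjjk : jjk.left = (W i).ι := by
    show X.left.homOfLE hWU ≫ jS.left = _
    rw [hjS, Scheme.homOfLE_ι]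
  haveI : IsOpenImmersion jjk.left := by rw [hjjk]; infer_instance
  have hclk : GIT.IsClosedAction ak := by
    refine isClosedAction_of_closedOrbitsOn jjk (a := a) ?_ (W i) ?_ (hcl i)
    · rw [reassoc_of% hak, haS, ← MonoidalCategory.whiskerLeft_comp_assoc]
    · rw [hjjk]; exact (W i).range_ι
  have hsurj := Groth.L14.GITAff.surjective_psiY hG ak φk huk hclk
  let M := Limits.pullback.map φk.left φk.left φs.left φs.left jk.left jk.left jDk.left
    (congrArg CommaMorphism.left hsqk).symm (congrArg CommaMorphism.left hsqk).symm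
  have hzM : z ∈ Set.range M.base := by
    have h2 : (Limits.pullback.snd φs.left φs.left ≫ φs.left).base z =
        (Limits.pullback.fst φs.left φs.left ≫ φs.left).base z :=
      congrArg (fun q : Limits.pullback φs.left φs.left ⟶ Ys.left => q.base z) Limits.pullback.condition.symm
    rw [Scheme.Pullback.range_map]
    refine ⟨?_, ?_⟩
    all_goals
      show _ ∈ (X.left.homOfLE hWU).opensRange
      rw [Scheme.opensRange_homOfLE]
      refine (hpre' _).1 ?_
    · exact hi
    · exact h2 ▸ hi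
  obtain ⟨w, rfl⟩ := hzM
  obtain ⟨q, rfl⟩ := hsurj w
  refine ⟨(G ◁ jk).left.base q, ?_⟩
  show ((G ◁ jk).left ≫ GIT.PsiY aS φs _).base q = (GIT.PsiY ak φk _ ≫ M).base q
  refine congrArg (fun e : (G ⊗ Xk).left ⟶ Limits.pullback φs.left φs.left => e.base q)
    (Limits.pullback.hom_ext ?_ ?_)
  · simp only [Category.assoc, GIT.PsiY, M, Limits.pullback.map, Limits.pullback.lift_fst,
      Limits.pullback.lift_fst_assoc]
    exact (congrArg CommaMorphism.left hak).symm
  · simp only [Category.assoc, GIT.PsiY, M, Limits.pullback.map, Limits.pullback.lift_snd,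
      Limits.pullback.lift_snd_assoc]
    exact congrArg CommaMorphism.left (whiskerLeft_snd G jk)

end Groth.L14.GITLin
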