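import Groth.Agent.L18.GIT.UnivQuot
import Mathlib.AlgebraicGeometry.Restrict
import Mathlib.AlgebraicGeometry.Pullbacks

/-!
# Universal categorical quotients are local on the base
-/

set_option autoImplicit false
set_option linter.style.haveILetI false
set_option backward.isDefEq.respectTransparency false

noncomputable section

universe u

open CategoryTheory MonoidalCategory CartesianMonoidalCategory MonObj AlgebraicGeometry TopologicalSpace Opposite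

namespace Groth.L14.GITLin

variable {S : Scheme.{u}} {G X Y : Over S} [GrpObj G] {a : AlgGrp.Action G X} {φ : X ⟶ Y}

theorem mono_of_left {A B : Over S} (f : A ⟶ B) [Mono f.left] : Mono f := Over.mono_of_mono_left f

/-- A base change landing in a piece which is a universal categorical quotient is a categorical quotient. -/
theorem isCatQuot_of_range_le {Xi Yi : Over S} {ai : AlgGrp.Action G Xi} {φi : Xi ⟶ Yi}
    (h : GIT.IsUnivCatQuot ai φi) {ιX : Xi ⟶ X} {ιY : Yi ⟶ Y} [IsOpenImmersion ιY.left]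
    (hι : IsPullback ιX φi φ ιY) (hc : ai.act ≫ ιX = (G ◁ ιX) ≫ a.act)
    {X' Y' : Over S} {pr : X' ⟶ X} {φ' : X' ⟶ Y'} {g : Y' ⟶ Y} (hpb : IsPullback pr φ' φ g)
    (hr : Set.range g.left.base ⊆ Set.range ιY.left.base)
    (a' : AlgGrp.Action G X') (ha : a'.act ≫ pr = (G ◁ pr) ≫ a.act) (hi : GIT.IsInvariant a' φ') :
    GIT.IsCatQuot a' φ' := by
  let g' : Y' ⟶ Yi := Over.homMk (IsOpenImmersion.lift ιY.left g.left hr) (by
    rw [← Over.w ιY, IsOpenImmersion.lift_fac_assoc, Over.w g])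
  have hg : g' ≫ ιY = g := Over.OverMorphism.ext (IsOpenImmersion.lift_fac _ _ _)
  let pr' : X' ⟶ Xi := hι.lift pr (φ' ≫ g') (by rw [Category.assoc, hg, hpb.w])
  have h1 : pr' ≫ ιX = pr := hι.lift_fst _ _ _
  have h2 : pr' ≫ φi = φ' ≫ g' := hι.lift_snd _ _ _
  have hpb' : IsPullback pr' φ' φi g' := by
    refine IsPullback.of_right ?_ h2 hι
    rw [h1, hg]; exact hpb
  refine h.2 pr' φ' g' trivial hpb' a' (hι.hom_ext ?_ ?_) hi
  · rw [Category.assoc, Category.assoc, h1, hc, ha, ← MonoidalCategory.whiskerLeft_comp_assoc, h1]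
  · rw [Category.assoc, Category.assoc, h2, reassoc_of% hi, h.1.1, whiskerLeft_snd_assoc, h2]

/-- An invariant map which is a categorical quotient over enough small opens is one. -/
theorem isCatQuot_of_local {J : Type u} (U : J → Y.left.Opens) (hU : ∀ y, ∃ i, y ∈ U i)
    (hi : GIT.IsInvariant a φ)
    (h : ∀ {X' Y' : Over S} (pr : X' ⟶ X) (φ' : X' ⟶ Y') (g : Y' ⟶ Y), (∃ i, Set.range g.left.base ⊆ U i) →
      IsPullback pr φ' φ g →
      ∀ a' : AlgGrp.Action G X', a'.act ≫ pr = (G ◁ pr) ≫ a.act → GIT.IsInvariant a' φ' → GIT.IsCatQuot a' φ') :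
    GIT.IsCatQuot a φ := by
  refine ⟨hi, fun Z ψ hψ => ?_⟩
  have piece : ∀ {Y' : Over S} (g : Y' ⟶ Y), (∃ i, Set.range g.left.base ⊆ U i) →
      ∀ {X' : Over S} (pr : X' ⟶ X) (φ' : X' ⟶ Y'), IsPullback pr φ' φ g →
      ∃! χ : Y' ⟶ Z, φ' ≫ χ = pr ≫ ψ := by
    intro Y' g hg X' pr φ' hpb
    obtain ⟨a', ha', hi'⟩ := Groth.L18.GITQ.exists_baseChange_action a hi hpb
    refine (h pr φ' g hg hpb a' ha' hi').2 Z (pr ≫ ψ) ?_
    rw [GIT.IsInvariant, reassoc_of% ha', hψ, whiskerLeft_snd_assoc]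
  let Yi : J → Over S := fun i => Over.mk ((U i).ι ≫ Y.hom)
  let gi : ∀ i, Yi i ⟶ Y := fun i => Over.homMk (U i).ι rfl
  have hgi : ∀ i, ∃ j, Set.range (gi i).left.base ⊆ U j := fun i => ⟨i, (U i).range_ι.le⟩
  choose χ hχ hu using fun i => piece (gi i) (hgi i) _ _ (IsPullback.of_hasPullback φ (gi i))
  let 𝒰 : Y.left.OpenCover := Y.left.openCoverOfIsOpenCover U (TopologicalSpace.IsOpenCover.mk (by
    refine eq_top_iff.2 fun y _ => ?_
    obtain ⟨i, hiy⟩ := hU y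
    exact Opens.mem_iSup.2 ⟨i, hiy⟩))
  have glue : ∀ i j, Limits.pullback.fst (U i).ι (U j).ι ≫ (χ i).left =
      Limits.pullback.snd (U i).ι (U j).ι ≫ (χ j).left := by
    intro i j
    let Q : Over S := Over.mk (Limits.pullback.fst (U i).ι (U j).ι ≫ (U i).ι ≫ Y.hom)
    let qi : Q ⟶ Yi i := Over.homMk (Limits.pullback.fst (U i).ι (U j).ι) rfl
    let qj : Q ⟶ Yi j := Over.homMk (Limits.pullback.snd (U i).ι (U j).ι) (by
      show Limits.pullback.snd (U i).ι (U j).ι ≫ (U j).ι ≫ Y.hom = Limits.pullback.fst (U i).ι (U j).ι ≫ (U i).ι ≫ Y.hom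
      rw [Limits.pullback.condition_assoc])
    have hq : qi ≫ gi i = qj ≫ gi j := Over.OverMorphism.ext Limits.pullback.condition
    have hr : ∃ l, Set.range (qi ≫ gi i).left.base ⊆ U l := ⟨i, by
      rintro _ ⟨z, rfl⟩; exact (qi.left.base z).2⟩
    have hP := IsPullback.of_hasPullback φ (qi ≫ gi i)
    have e : qi ≫ χ i = qj ≫ χ j := by
      have hcond : Limits.pullback.fst φ (qi ≫ gi i) ≫ φ = (Limits.pullback.snd φ (qi ≫ gi i) ≫ qi) ≫ gi i := by
        rw [Category.assoc]; exact Limits.pullback.condition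
      have hcond' : Limits.pullback.fst φ (qi ≫ gi i) ≫ φ = (Limits.pullback.snd φ (qi ≫ gi i) ≫ qj) ≫ gi j := by
        rw [Category.assoc, ← hq]; exact Limits.pullback.condition
      refine (piece (qi ≫ gi i) hr _ _ hP).unique ?_ ?_
      · show Limits.pullback.snd φ (qi ≫ gi i) ≫ qi ≫ χ i = Limits.pullback.fst φ (qi ≫ gi i) ≫ ψ
        rw [← Category.assoc, ← Limits.pullback.lift_snd _ _ hcond, Category.assoc, hχ i,
          Limits.pullback.lift_fst_assoc]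
      · show Limits.pullback.snd φ (qi ≫ gi i) ≫ qj ≫ χ j = Limits.pullback.fst φ (qi ≫ gi i) ≫ ψ
        rw [← Category.assoc, ← Limits.pullback.lift_snd _ _ hcond', Category.assoc, hχ j,
          Limits.pullback.lift_fst_assoc]
    exact congrArg CommaMorphism.left e
  let χ' : Y.left ⟶ Z.left := 𝒰.glueMorphisms (fun i => (χ i).left) glue
  have hχ' : ∀ i, (U i).ι ≫ χ' = (χ i).left := fun i => 𝒰.ι_glueMorphisms _ glue i
  have hw : χ' ≫ Z.hom = Y.hom := by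
    refine 𝒰.hom_ext _ _ fun i => ?_
    show (U i).ι ≫ χ' ≫ Z.hom = (U i).ι ≫ Y.hom
    rw [← Category.assoc, hχ' i]
    exact Over.w (χ i)
  let χY : Y ⟶ Z := Over.homMk χ' hw
  have hloc : ∀ (χ₁ : Y ⟶ Z), φ ≫ χ₁ = ψ → ∀ i, gi i ≫ χ₁ = χ i := by
    intro χ₁ h₁ i
    refine hu i _ ?_
    show Limits.pullback.snd φ (gi i) ≫ gi i ≫ χ₁ = Limits.pullback.fst φ (gi i) ≫ ψ
    rw [← Limits.pullback.condition_assoc, h₁]
  refine ⟨χY, ?_, fun χ₁ h₁ => ?_⟩
  · apply Over.OverMorphism.ext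
    refine (X.left.openCoverOfIsOpenCover (fun i => φ.left ⁻¹ᵁ U i) (TopologicalSpace.IsOpenCover.mk (by
      refine eq_top_iff.2 fun x _ => ?_
      obtain ⟨i, hix⟩ := hU (φ.left.base x)
      exact Opens.mem_iSup.2 ⟨i, hix⟩))).hom_ext _ _ fun i => ?_
    let Xi : Over S := Over.mk ((φ.left ⁻¹ᵁ U i).ι ≫ X.hom)
    let jx : Xi ⟶ X := Over.homMk (φ.left ⁻¹ᵁ U i).ι rfl
    let φi : Xi ⟶ Yi i := Over.homMk (φ.left ∣_ U i) (by
      show (φ.left ∣_ U i) ≫ (U i).ι ≫ Y.hom = (φ.left ⁻¹ᵁ U i).ι ≫ X.hom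
      rw [morphismRestrict_ι_assoc, Over.w φ])
    have e2 : jx ≫ φ = φi ≫ gi i := Over.OverMorphism.ext (morphismRestrict_ι φ.left (U i)).symm
    have e : jx ≫ φ ≫ χY = jx ≫ ψ := by
      rw [reassoc_of% e2, show gi i ≫ χY = χ i from Over.OverMorphism.ext (hχ' i),
        ← Limits.pullback.lift_snd jx φi e2, Category.assoc, hχ i, Limits.pullback.lift_fst_assoc]
    exact congrArg CommaMorphism.left e
  · apply Over.OverMorphism.ext
    refine 𝒰.hom_ext _ _ fun i => ?_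
    show (U i).ι ≫ χ₁.left = (U i).ι ≫ χ'
    rw [hχ' i]
    exact congrArg CommaMorphism.left (hloc χ₁ h₁ i)

/-- Universal categorical quotients are local on the base. -/
theorem isUnivCatQuot_of_cover {J : Type u} {Xi Yi : J → Over S} (ai : ∀ i, AlgGrp.Action G (Xi i))
    (φi : ∀ i, Xi i ⟶ Yi i) (ιX : ∀ i, Xi i ⟶ X) (ιY : ∀ i, Yi i ⟶ Y) [∀ i, IsOpenImmersion (ιY i).left]
    (hcov : ∀ y, ∃ i, y ∈ Set.range (ιY i).left.base)
    (hι : ∀ i, IsPullback (ιX i) (φi i) φ (ιY i)) (hc : ∀ i, (ai i).act ≫ ιX i = (G ◁ ιX i) ≫ a.act)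
    (h : ∀ i, GIT.IsUnivCatQuot (ai i) (φi i)) (hi : GIT.IsInvariant a φ) :
    GIT.IsUnivCatQuot a φ := by
  have bc : ∀ {X' Y' : Over S} (pr : X' ⟶ X) (φ' : X' ⟶ Y') (g : Y' ⟶ Y), IsPullback pr φ' φ g →
      ∀ a' : AlgGrp.Action G X', a'.act ≫ pr = (G ◁ pr) ≫ a.act → GIT.IsInvariant a' φ' →
      GIT.IsCatQuot a' φ' := by
    intro X' Y' pr φ' g hpb a' ha hi'
    refine isCatQuot_of_local (fun i => g.left ⁻¹ᵁ (ιY i).left.opensRange) (fun y => ?_) hi' ?_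
    · obtain ⟨i, hy⟩ := hcov (g.left.base y)
      exact ⟨i, hy⟩
    · intro X'' Y'' pr' φ'' g' ⟨i, hg'⟩ hpb' a'' ha'' hi''
      refine isCatQuot_of_range_le (h i) (hι i) (hc i) (hpb'.paste_horiz hpb) ?_ a'' ?_ hi''
      · rintro _ ⟨z, rfl⟩
        exact hg' ⟨z, rfl⟩
      · rw [reassoc_of% ha'', ha, MonoidalCategory.whiskerLeft_comp_assoc]
  exact ⟨bc (𝟙 X) φ (𝟙 Y) IsPullback.of_id_fst a (by simp) hi,
    fun X' Y' pr φ' g _ hpb a' ha hi' => bc pr φ' g hpb a' ha hi'⟩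

/-- Universal submersions are local on the base. -/
theorem isUnivSubmersive_of_cover {X Y : Scheme.{u}} (f : X ⟶ Y) {J : Type u} {Xi Yi : J → Scheme.{u}}
    (fi : ∀ i, Xi i ⟶ Yi i) (jX : ∀ i, Xi i ⟶ X) (jY : ∀ i, Yi i ⟶ Y) [∀ i, IsOpenImmersion (jY i)]
    (hcov : ∀ y, ∃ i, y ∈ Set.range (jY i).base) (hj : ∀ i, IsPullback (jX i) (fi i) f (jY i))
    (h : ∀ i, GIT.IsUnivSubmersive (fi i)) : GIT.IsUnivSubmersive f := by
  intro X₁ Y₁ i₁ i₂ f' hpb
  have key : ∀ i, Topology.IsQuotientMap (f' ∣_ (i₂ ⁻¹ᵁ (jY i).opensRange)).base := by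
    intro i
    set V := i₂ ⁻¹ᵁ (jY i).opensRange
    have hr : Set.range (V.ι ≫ i₂).base ⊆ Set.range (jY i).base := by
      rintro _ ⟨z, rfl⟩; exact z.2
    let g' := IsOpenImmersion.lift (jY i) (V.ι ≫ i₂) hr
    have hg : g' ≫ jY i = V.ι ≫ i₂ := IsOpenImmersion.lift_fac _ _ _
    have p1 : IsPullback ((f' ⁻¹ᵁ V).ι ≫ i₁) (f' ∣_ V) f (V.ι ≫ i₂) :=
      (isPullback_morphismRestrict f' V).flip.paste_horiz hpb.flip
    let pr := (hj i).lift ((f' ⁻¹ᵁ V).ι ≫ i₁) ((f' ∣_ V) ≫ g') (by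
      rw [Category.assoc (f' ∣_ V), hg]; exact p1.w)
    have p2 : IsPullback pr (f' ∣_ V) (fi i) g' := by
      refine IsPullback.of_right ?_ ((hj i).lift_snd _ _ _) (hj i)
      rw [(hj i).lift_fst, hg]; exact p1
    exact h i pr g' (f' ∣_ V) p2.flip
  show Topology.IsQuotientMap f'.base
  rw [Topology.isQuotientMap_iff_isClosed]
  have hsurj : Function.Surjective f'.base := by
    intro y
    obtain ⟨i, hy⟩ := hcov (i₂.base y)
    obtain ⟨z, hz⟩ := (key i).surjective ⟨y, hy⟩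
    exact ⟨z.1, by rw [← morphismRestrict_base_coe, hz]⟩
  refine ⟨hsurj, fun s => ⟨fun hs => hs.preimage f'.continuous, fun hs => ?_⟩⟩
  rw [← isOpen_compl_iff, isOpen_iff_forall_mem_open]
  intro y hy
  obtain ⟨i, hyi⟩ := hcov (i₂.base y)
  set V := i₂ ⁻¹ᵁ (jY i).opensRange
  have h1 : IsClosed ((Subtype.val : V → Y₁) ⁻¹' s) := by
    refine ((Topology.isQuotientMap_iff_isClosed.1 (key i)).2 _).2 ?_
    have : (f' ∣_ V).base ⁻¹' (Subtype.val ⁻¹' s) = Subtype.val ⁻¹' (f'.base ⁻¹' s) := by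
      ext z
      simp only [Set.mem_preimage]
      rw [morphismRestrict_base_coe]
    rw [this]
    exact hs.preimage continuous_subtype_val
  refine ⟨Subtype.val '' ((Subtype.val : V → Y₁) ⁻¹' s)ᶜ, ?_, V.2.isOpenMap_subtype_val _ h1.isOpen_compl,
    ⟨⟨y, hyi⟩, hy, rfl⟩⟩
  rintro _ ⟨z, hz, rfl⟩
  exact hz

end Groth.L14.GITLin
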