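import Groth.Agent.L14.GITLin.Inv
import Mathlib.RingTheory.GradedAlgebra.HomogeneousLocalization
import Mathlib.Algebra.Polynomial.Coeff

/-!
# The graded algebra of invariant sections
-/

set_option autoImplicit false
set_option linter.style.haveILetI false
set_option backward.isDefEq.respectTransparency false

noncomputable section

universe u

open CategoryTheory MonoidalCategory CartesianMonoidalCategory MonObj AlgebraicGeometry TopologicalSpace Opposite

namespace Groth.L14.GITLin

variable {k : Type u} [Field k]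

/-- The scalars of a global section ring over a field. -/
def scal (V : Over (Spec (CommRingCat.of k))) : k →+* Γ(V.left, ⊤) :=
  ((Scheme.ΓSpecIso (CommRingCat.of k)).inv ≫ V.hom.appTop).hom

/-- The algebra structure on global sections. -/
@[reducible] def secAlg (V : Over (Spec (CommRingCat.of k))) : Algebra k Γ(V.left, ⊤) := (scal V).toAlgebra

attribute [local instance] secAlg

variable {G X : Over (Spec (CommRingCat.of k))} [GrpObj G] {a : AlgGrp.Action G X} (B : GLinSh.LinBun G a)

theorem scal_eq (c : k) : scal B.V c = B.π.left.appTop (scal X c) := by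
  show ((Scheme.ΓSpecIso (CommRingCat.of k)).inv ≫ B.V.hom.appTop) c =
    ((Scheme.ΓSpecIso (CommRingCat.of k)).inv ≫ X.hom.appTop ≫ B.π.left.appTop) c
  rw [← Scheme.Hom.comp_appTop, Over.w]

theorem sec_scal (c : k) : B.IsInvSection 0 (scal B.V c) := by
  refine ⟨scal_eq B c ▸ hasWeight_base B.atlas _, ?_⟩
  show (B.V.hom.appTop ≫ B.lift.act.left.appTop) ((Scheme.ΓSpecIso (CommRingCat.of k)).inv c) =
    (B.V.hom.appTop ≫ (snd G B.V).left.appTop) ((Scheme.ΓSpecIso (CommRingCat.of k)).inv c)
  rw [← Scheme.Hom.comp_appTop, ← Scheme.Hom.comp_appTop, Over.w, Over.w]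

variable {B}

theorem sec_zero (n : ℕ) : B.IsInvSection n 0 := ⟨hasWeight_zero B.atlas, isInvFn_zero⟩

theorem sec_one : B.IsInvSection 0 1 := ⟨hasWeight_one B.atlas, isInvFn_one⟩

theorem sec_add {n : ℕ} {x y : Γ(B.V.left, ⊤)} (hx : B.IsInvSection n x) (hy : B.IsInvSection n y) :
    B.IsInvSection n (x + y) := ⟨hasWeight_add B.atlas hx.1 hy.1, isInvFn_add hx.2 hy.2⟩

theorem sec_mul {n m : ℕ} {x y : Γ(B.V.left, ⊤)} (hx : B.IsInvSection n x) (hy : B.IsInvSection m y) :
    B.IsInvSection (n + m) (x * y) := ⟨hasWeight_mul B.atlas hx.1 hy.1, isInvFn_mul hx.2 hy.2⟩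

theorem sec_pow {n : ℕ} {x : Γ(B.V.left, ⊤)} (hx : B.IsInvSection n x) (j : ℕ) :
    B.IsInvSection (n * j) (x ^ j) := ⟨hasWeight_pow B.atlas hx.1 j, isInvFn_pow hx.2 j⟩

theorem sec_congr {n m : ℕ} {x : Γ(B.V.left, ⊤)} (hx : B.IsInvSection n x) (h : n = m) : B.IsInvSection m x := h ▸ hx

variable (B) (N : ℕ)

/-- Polynomials whose `m`-th coefficient is an invariant section of weight `N m`. -/
def secRing : Subalgebra k (Polynomial Γ(B.V.left, ⊤)) where
  carrier := {p | ∀ m, B.IsInvSection (N * m) (p.coeff m)}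
  mul_mem' {p q} hp hq m := by
    rw [Polynomial.coeff_mul]
    refine Finset.sum_induction _ (B.IsInvSection (N * m)) (fun _ _ => sec_add) (sec_zero _) fun x hx => ?_
    exact sec_congr (sec_mul (hp x.1) (hq x.2)) (by rw [← Nat.mul_add, Finset.mem_antidiagonal.1 hx])
  add_mem' {p q} hp hq m := by rw [Polynomial.coeff_add]; exact sec_add (hp m) (hq m)
  algebraMap_mem' c m := by
    rw [Polynomial.algebraMap_apply, Polynomial.coeff_C]
    split
    · subst m; exact sec_scal B c
    · exact sec_zero _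

/-- The graded pieces. -/
def deg (m : ℕ) : Submodule k (secRing B N) where
  carrier := {p | ∀ j, j ≠ m → p.1.coeff j = 0}
  zero_mem' _ _ := Polynomial.coeff_zero _
  add_mem' {p q} hp hq j hj := by
    show (p.1 + q.1).coeff j = 0
    rw [Polynomial.coeff_add, hp j hj, hq j hj, add_zero]
  smul_mem' c p hp j hj := by
    show (c • p.1).coeff j = 0
    rw [Polynomial.coeff_smul, hp j hj, smul_zero]

variable {B N}

/-- A homogeneous element. -/
def mkDeg {m : ℕ} {f : Γ(B.V.left, ⊤)} (hf : B.IsInvSection (N * m) f) : secRing B N :=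
  ⟨Polynomial.monomial m f, fun j => by
    rw [Polynomial.coeff_monomial]
    split
    · subst j; exact hf
    · exact sec_zero _⟩

theorem mkDeg_mem {m : ℕ} {f : Γ(B.V.left, ⊤)} (hf : B.IsInvSection (N * m) f) : mkDeg hf ∈ deg B N m :=
  fun j hj => by rw [mkDeg, Polynomial.coeff_monomial, if_neg (Ne.symm hj)]

theorem eq_monomial {m : ℕ} {p : secRing B N} (hp : p ∈ deg B N m) :
    p.1 = Polynomial.monomial m (p.1.coeff m) := by
  refine Polynomial.ext fun j => ?_
  rw [Polynomial.coeff_monomial]
  split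
  · subst j; rfl
  · exact hp j (Ne.symm ‹_›)

instance gradedMonoid : SetLike.GradedMonoid (deg B N) where
  one_mem j hj := by
    show (1 : Polynomial Γ(B.V.left, ⊤)).coeff j = 0
    rw [Polynomial.coeff_one, if_neg hj]
  mul_mem i j p q hp hq l hl := by
    show (p.1 * q.1).coeff l = 0
    rw [eq_monomial hp, eq_monomial hq, Polynomial.monomial_mul_monomial, Polynomial.coeff_monomial,
      if_neg (Ne.symm hl)]

theorem isInternal_deg : DirectSum.IsInternal (deg B N) := by
  rw [DirectSum.isInternal_submodule_iff_iSupIndep_and_iSup_eq_top]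
  refine ⟨fun i => ?_, eq_top_iff.2 fun p _ => ?_⟩
  · let K : Submodule k (secRing B N) :=
      LinearMap.ker ((Polynomial.lcoeff Γ(B.V.left, ⊤) i).restrictScalars k ∘ₗ (secRing B N).val.toLinearMap)
    have hK : (⨆ (j) (_ : j ≠ i), deg B N j) ≤ K := by
      refine iSup₂_le fun j hj p hp => LinearMap.mem_ker.2 ?_
      exact hp i hj.symm
    refine (Submodule.disjoint_def.2 fun p hp hq => ?_)
    have h0 : p.1.coeff i = 0 := LinearMap.mem_ker.1 (hK hq)
    exact Subtype.ext ((eq_monomial hp).trans (by rw [h0, map_zero]; rfl))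
  · have e : p = ∑ j ∈ p.1.support, mkDeg (p.2 j) := by
      refine Subtype.ext ?_
      rw [AddSubmonoidClass.coe_finsetSum]
      exact p.1.as_sum_support
    rw [e]
    exact Submodule.sum_mem _ fun j _ => le_iSup (deg B N) j (mkDeg_mem (p.2 j))

instance gradedAlgebra : GradedAlgebra (deg B N) where
  __ := gradedMonoid
  __ := isInternal_deg.chooseDecomposition

theorem mkDeg_mul {m e : ℕ} {f g : Γ(B.V.left, ⊤)} (hf : B.IsInvSection (N * m) f) (hg : B.IsInvSection (N * e) g) :
    mkDeg hf * mkDeg hg = mkDeg (m := m + e) (sec_congr (sec_mul hf hg) (Nat.mul_add N m e).symm) :=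
  Subtype.ext (Polynomial.monomial_mul_monomial m e f g)

/-- The evaluation at `T = 1`, restricted to an open. -/
def evalOn (B : GLinSh.LinBun G a) (N : ℕ) (O : B.V.left.Opens) : secRing B N →+* Γ(B.V.left, O) :=
  (B.V.left.presheaf.map (homOfLE le_top).op).hom.comp ((Polynomial.evalRingHom 1).comp (secRing B N).val.toRingHom)

theorem evalOn_mkDeg {O : B.V.left.Opens} {m : ℕ} {f : Γ(B.V.left, ⊤)} (hf : B.IsInvSection (N * m) f) :
    evalOn B N O (mkDeg hf) = rsV le_top f :=
  congrArg _ (show Polynomial.eval 1 (Polynomial.monomial m f) = f by simp)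

theorem evalOn_of_mem {O : B.V.left.Opens} {m : ℕ} {p : secRing B N} (hp : p ∈ deg B N m) :
    evalOn B N O p = rsV le_top (p.1.coeff m) :=
  congrArg _ ((congrArg (Polynomial.eval 1) (eq_monomial hp)).trans (by simp))

variable {m : ℕ} {f : Γ(B.V.left, ⊤)} (hf : B.IsInvSection (N * m) f)

theorem isUnit_evalOn : IsUnit (evalOn B N (B.V.left.basicOpen f) (mkDeg hf)) := by
  rw [evalOn_mkDeg]; exact isUnit_resTop_basicOpen f

omit hf in
theorem awayLift_mk_mul {A P : Type*} [CommRing A] [CommRing P] (g : A →+* P) (r : A) (hu : IsUnit (g r)) (n : ℕ)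
    (x : A) : Localization.awayLift g r hu (Localization.mk x (⟨r ^ n, n, rfl⟩ : Submonoid.powers r)) * g r ^ n = g x := by
  have e : algebraMap A (Localization.Away r) (r ^ n) * Localization.mk x (⟨r ^ n, n, rfl⟩ : Submonoid.powers r) =
      algebraMap _ _ x := by
    rw [Localization.mk_eq_mk']
    exact IsLocalization.mk'_spec' _ x (⟨r ^ n, n, rfl⟩ : Submonoid.powers r)
  have := congrArg (Localization.awayLift g r hu) e
  rw [map_mul, IsLocalization.Away.lift_eq, IsLocalization.Away.lift_eq, map_pow, mul_comm] at this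
  exact this

/-- A degree-zero fraction as a function where `f` does not vanish. -/
def epsMap : HomogeneousLocalization.Away (deg B N) (mkDeg hf) →+* Γ(B.V.left, B.V.left.basicOpen f) :=
  (Localization.awayLift (evalOn B N _) (mkDeg hf) (isUnit_evalOn hf)).comp (algebraMap _ _)

theorem epsMap_mk {n : ℕ} {x : secRing B N} (hx : x ∈ deg B N (n • m)) :
    epsMap hf (HomogeneousLocalization.Away.mk (deg B N) (mkDeg_mem hf) n x hx) *
      rsV (B.V.left.basicOpen_le f) f ^ n = rsV (B.V.left.basicOpen_le f) (x.1.coeff (n • m)) := by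
  rw [← evalOn_of_mem (O := B.V.left.basicOpen f) hx]
  refine Eq.trans ?_ (awayLift_mk_mul (evalOn B N (B.V.left.basicOpen f)) (mkDeg hf) (isUnit_evalOn hf) n x)
  exact congrArg₂ (· * ·) rfl (congrArg (· ^ n) (evalOn_mkDeg hf).symm)

/-- The non-vanishing locus of an invariant section. -/
abbrev loc : X.left.Opens := nv B.atlas hf.1

/-- Pullback to the locus where `f` does not vanish. -/
def jMap : Γ(X.left, loc hf) →+* Γ(B.V.left, B.V.left.basicOpen f) :=
  (B.π.left.appLE _ _ (basicOpen_le_nv B.atlas hf.1)).hom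

theorem jMap_injective : Function.Injective (jMap hf) :=
  haveI := flat_π B.atlas
  injective_appLE_of_flat B.π.left _ _ _ fun x hx => exists_mem_basicOpen B.atlas hf.1 hx

theorem jMap_of_eq {n : ℕ} {F : Γ(B.V.left, ⊤)} {h : Γ(X.left, loc hf)}
    (e : GLinSh.resTop B.π (loc hf) F = B.π.left.app _ h * GLinSh.resTop B.π (loc hf) f ^ n) :
    jMap hf h * rsV (B.V.left.basicOpen_le f) f ^ n = rsV (B.V.left.basicOpen_le f) F := by
  have := congrArg (rsV (basicOpen_le_nv B.atlas hf.1)) e
  simp only [GLinSh.resTop, rsV, map_mul, map_pow, res_res] at this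
  exact this.symm

theorem hasWeight_coeff {n : ℕ} (x : secRing B N) :
    GLinSh.HasWeight B.atlas.chart (N * m * n) (x.1.coeff (n • m)) :=
  (sec_congr (x.2 (n • m)) (by rw [smul_eq_mul]; ring)).1

theorem epsMap_mem_range (z) : epsMap hf z ∈ (jMap hf).range := by
  obtain ⟨n, x, hx, rfl⟩ := HomogeneousLocalization.Away.mk_surjective (deg B N) (mkDeg_mem hf) z
  refine ⟨quo B.atlas hf.1 (hasWeight_coeff (m := m) (n := n) x), ?_⟩
  exact ((isUnit_resTop_basicOpen f).pow n).mul_right_cancel
    ((jMap_of_eq hf (quo_spec B.atlas hf.1 _)).trans (epsMap_mk hf hx).symm)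

/-- A degree-zero fraction as a function on `X_f`. -/
def theta : HomogeneousLocalization.Away (deg B N) (mkDeg hf) →+* Γ(X.left, loc hf) :=
  (RingEquiv.ofBijective (jMap hf).rangeRestrict
    ⟨fun x y h => jMap_injective hf (congrArg Subtype.val h), (jMap hf).rangeRestrict_surjective⟩).symm.toRingHom.comp
      ((epsMap hf).codRestrict _ (epsMap_mem_range hf))

theorem jMap_theta (z) : jMap hf (theta hf z) = epsMap hf z :=
  congrArg Subtype.val ((RingEquiv.ofBijective (jMap hf).rangeRestrict
    ⟨fun _ _ h => jMap_injective hf (congrArg Subtype.val h), (jMap hf).rangeRestrict_surjective⟩).apply_symm_apply _)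

theorem theta_mk {n : ℕ} {x : secRing B N} (hx : x ∈ deg B N (n • m)) :
    GLinSh.resTop B.π (loc hf) (x.1.coeff (n • m)) =
      B.π.left.app _ (theta hf (HomogeneousLocalization.Away.mk (deg B N) (mkDeg_mem hf) n x hx)) *
        GLinSh.resTop B.π (loc hf) f ^ n := by
  have hq := quo_spec B.atlas hf.1 (hasWeight_coeff (m := m) (n := n) x)
  suffices e : theta hf (HomogeneousLocalization.Away.mk (deg B N) (mkDeg_mem hf) n x hx) =
      quo B.atlas hf.1 (hasWeight_coeff (m := m) (n := n) x) by rw [e]; exact hq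
  refine jMap_injective hf (((isUnit_resTop_basicOpen f).pow n).mul_right_cancel ?_)
  rw [jMap_theta]
  exact (epsMap_mk hf hx).trans (jMap_of_eq hf hq).symm

theorem invOn_theta (z) : InvOn a (loc hf) (theta hf z) := by
  obtain ⟨n, x, hx, rfl⟩ := HomogeneousLocalization.Away.mk_surjective (deg B N) (mkDeg_mem hf) z
  exact invOn_of_eq hf.1 hf.2 (x.2 (n • m)).2 le_rfl (theta_mk hf hx)

theorem theta_injective [CompactSpace B.V.left] : Function.Injective (theta hf) := by
  rw [injective_iff_map_eq_zero]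
  intro z hz
  obtain ⟨n, x, hx, rfl⟩ := HomogeneousLocalization.Away.mk_surjective (deg B N) (mkDeg_mem hf) z
  have h1 := epsMap_mk hf hx
  rw [← jMap_theta, hz, map_zero, zero_mul] at h1
  obtain ⟨r, hr⟩ := exists_pow_mul_eq_zero_of_res_basicOpen_eq_zero_of_isCompact B.V.left (U := ⊤) isCompact_univ
    (x.1.coeff (n • m)) f h1.symm
  refine HomogeneousLocalization.val_injective _ ?_
  rw [HomogeneousLocalization.Away.val_mk, HomogeneousLocalization.val_zero, Localization.mk_eq_mk',
    IsLocalization.mk'_eq_zero_iff]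
  refine ⟨⟨mkDeg hf ^ r, r, rfl⟩, Subtype.ext ?_⟩
  show (Polynomial.monomial m f) ^ r * x.1 = 0
  rw [eq_monomial hx, Polynomial.monomial_pow, Polynomial.monomial_mul_monomial, hr, map_zero]

theorem theta_surjective [CompactSpace X.left] [QuasiSeparatedSpace X.left] [CompactSpace (G ⊗ B.V).left]
    (h : Γ(X.left, loc hf)) (hh : InvOn a _ h) : h ∈ Set.range (theta hf) := by
  obtain ⟨M, F, hF, e⟩ := exists_inv_extend hf.1 hf.2 h hh
  have hF' : B.IsInvSection (N * (M • m)) F := sec_congr hF (by rw [smul_eq_mul]; ring)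
  refine ⟨HomogeneousLocalization.Away.mk (deg B N) (mkDeg_mem hf) M (mkDeg hF') (mkDeg_mem hF'), ?_⟩
  refine jMap_injective hf (((isUnit_resTop_basicOpen f).pow M).mul_right_cancel ?_)
  rw [jMap_theta, jMap_of_eq hf e, epsMap_mk]
  exact congrArg _ (Polynomial.coeff_monomial_same _ _)

/-- Scalars go to scalars. -/
theorem theta_algebraMap (c : k) :
    theta hf (HomogeneousLocalization.fromZeroRingHom (deg B N) _ (algebraMap k (deg B N 0) c)) =
      rsX le_top (scal X c) := by
  refine jMap_injective hf ?_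
  rw [jMap_theta]
  have e1 : epsMap hf (HomogeneousLocalization.fromZeroRingHom (deg B N) _ (algebraMap k (deg B N 0) c)) =
      rsV (B.V.left.basicOpen_le f) (scal B.V c) := by
    show Localization.awayLift (evalOn B N _) (mkDeg hf) (isUnit_evalOn hf)
      (Localization.mk (algebraMap k (secRing B N) c) 1) = _
    rw [Localization.mk_one_eq_algebraMap, IsLocalization.Away.lift_eq]
    exact congrArg _ (show Polynomial.eval 1 (algebraMap k (Polynomial Γ(B.V.left, ⊤)) c) = scal B.V c by
      rw [Polynomial.algebraMap_apply, Polynomial.eval_C]; rfl)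
  rw [e1, scal_eq, jMap, rsX]
  show _ = B.π.left.appLE _ _ (basicOpen_le_nv B.atlas hf.1) _
  rw [appLE_res, rsV, Scheme.Hom.appLE, CommRingCat.comp_apply]
  rfl

variable {e : ℕ} {g : Γ(B.V.left, ⊤)} (hg : B.IsInvSection (N * e) g)

set_option maxHeartbeats 1600000 in
/-- Compatibility with further localisation. -/
theorem theta_awayMap {h : Γ(B.V.left, ⊤)} (hh : B.IsInvSection (N * (m + e)) h) (heq : h = f * g)
    (hx : mkDeg hh = mkDeg hf * mkDeg hg) (hle : loc hh ≤ loc hf) (z) :
    theta hh (HomogeneousLocalization.awayMap (deg B N) (mkDeg_mem hg) hx z) = rsX hle (theta hf z) := by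
  refine jMap_injective hh ?_
  rw [jMap_theta]
  obtain ⟨n, x, hxm, rfl⟩ := HomogeneousLocalization.Away.mk_surjective (deg B N) (mkDeg_mem hf) z
  rw [HomogeneousLocalization.awayMap_mk]
  refine ((isUnit_resTop_basicOpen h).pow n).mul_right_cancel ?_
  rw [epsMap_mk]
  have hD : B.V.left.basicOpen h ≤ B.V.left.basicOpen f := by
    rw [heq, Scheme.basicOpen_mul]; exact inf_le_left
  have e1 := congrArg (rsV hD) (epsMap_mk hf hxm)
  rw [← jMap_theta] at e1
  simp only [rsV, map_mul, map_pow, res_res] at e1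
  have e2 : rsV hD (jMap hf (theta hf (HomogeneousLocalization.Away.mk (deg B N) (mkDeg_mem hf) n x hxm))) =
      jMap hh (rsX hle (theta hf (HomogeneousLocalization.Away.mk (deg B N) (mkDeg_mem hf) n x hxm))) := by
    simp only [jMap, rsV, rsX]
    show (B.π.left.appLE _ _ _ ≫ B.V.left.presheaf.map _) _ = (X.left.presheaf.map _ ≫ B.π.left.appLE _ _ _) _
    rw [Scheme.Hom.appLE_map, Scheme.Hom.map_appLE]
  rw [rsV] at e2
  rw [e2] at e1
  have hcoef : (x * mkDeg hg ^ n).1.coeff (n • (m + e)) = x.1.coeff (n • m) * g ^ n := by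
    show (x.1 * (Polynomial.monomial e g) ^ n).coeff _ = _
    rw [eq_monomial hxm, Polynomial.monomial_pow, Polynomial.monomial_mul_monomial, smul_add, smul_eq_mul n e,
      mul_comm n e, Polynomial.coeff_monomial_same, ← eq_monomial hxm]
  rw [hcoef, rsV, map_mul, map_pow, ← e1]
  show _ = _ * B.V.left.presheaf.map _ h ^ n
  simp only [heq, map_mul]
  ring

/-- The locus where a degree-zero fraction does not vanish. -/
theorem basicOpen_theta (hm : 0 < m) :
    (X.left.basicOpen (theta hf (HomogeneousLocalization.Away.isLocalizationElem (mkDeg_mem hf) (mkDeg_mem hg))) :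
      Set X.left) = GLinSh.nonvanishing B.π g ∩ loc hf := by
  have e1 := theta_mk hf (n := e) (x := mkDeg hg ^ m) (by
    rw [smul_eq_mul, mul_comm, ← smul_eq_mul]; exact SetLike.pow_mem_graded m (mkDeg_mem hg))
  have hc : (mkDeg hg ^ m).1.coeff (e • m) = g ^ m := by
    show ((Polynomial.monomial e g) ^ m).coeff _ = _
    rw [Polynomial.monomial_pow, smul_eq_mul, Polynomial.coeff_monomial_same]
  rw [hc] at e1
  rw [← nonvanishing_pow hm g]
  exact (nonvanishing_inter_eq B.atlas hf.1 le_rfl e1).symm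

end Groth.L14.GITLin
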