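import Groth.Agent.L14.GITLin.Div
import Groth.Agent.L14.GITAff.ClosedAction

/-!
# Invariant sections of a linearised line bundle
-/

set_option autoImplicit false
set_option linter.style.haveILetI false
set_option backward.isDefEq.respectTransparency false

noncomputable section

universe u

open CategoryTheory MonoidalCategory CartesianMonoidalCategory MonObj AlgebraicGeometry TopologicalSpace Opposite

namespace Groth.L14.GITLin

variable {S : Scheme.{u}} {G X : Over S} [GrpObj G] {a : AlgGrp.Action G X} (B : GLinSh.LinBun G a)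

/-- A function on an open is invariant if its pullbacks agree where both are defined. -/
def InvOn (a : AlgGrp.Action G X) (O : X.left.Opens) (h : Γ(X.left, O)) : Prop :=
  a.act.left.appLE O (a.act.left ⁻¹ᵁ O ⊓ (snd G X).left ⁻¹ᵁ O) inf_le_left h =
    (snd G X).left.appLE O (a.act.left ⁻¹ᵁ O ⊓ (snd G X).left ⁻¹ᵁ O) inf_le_right h

theorem flat_whiskerLeft_π : Flat (G ◁ B.π).left :=
  haveI := flat_π B.atlas
  MorphismProperty.of_isPullback (P := @Flat) (Groth.L18.GITQ.isPullback_whiskerLeft G B.π).flip inferInstance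

/-- Points of `G ×_S V` over a given pair. -/
theorem exists_point_over (q : (G ⊗ X).left) (v : B.V.left) (e : (snd G X).left.base q = B.π.left.base v) :
    ∃ w : (G ⊗ B.V).left, (G ◁ B.π).left.base w = q ∧ (snd G B.V).left.base w = v :=
  Groth.L14.GITAff.exists_preimage_isPullback (Groth.L18.GITQ.isPullback_whiskerLeft G B.π) q v e

variable {B}

theorem isInvFn_mul {f g : Γ(B.V.left, ⊤)} (hf : GLinSh.IsInvFn B.lift f) (hg : GLinSh.IsInvFn B.lift g) :
    GLinSh.IsInvFn B.lift (f * g) := by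
  rw [GLinSh.IsInvFn, map_mul, map_mul, hf, hg]

theorem isInvFn_add {f g : Γ(B.V.left, ⊤)} (hf : GLinSh.IsInvFn B.lift f) (hg : GLinSh.IsInvFn B.lift g) :
    GLinSh.IsInvFn B.lift (f + g) := by
  rw [GLinSh.IsInvFn, map_add, map_add, hf, hg]

theorem isInvFn_zero : GLinSh.IsInvFn B.lift (0 : Γ(B.V.left, ⊤)) := by rw [GLinSh.IsInvFn, map_zero, map_zero]

theorem isInvFn_one : GLinSh.IsInvFn B.lift (1 : Γ(B.V.left, ⊤)) := by rw [GLinSh.IsInvFn, map_one, map_one]

theorem isInvFn_pow {f : Γ(B.V.left, ⊤)} (hf : GLinSh.IsInvFn B.lift f) (j : ℕ) :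
    GLinSh.IsInvFn B.lift (f ^ j) := by
  rw [GLinSh.IsInvFn, map_pow, map_pow, hf]

theorem preimage_basicOpen_of_isInvFn {f : Γ(B.V.left, ⊤)} (hf : GLinSh.IsInvFn B.lift f) :
    B.lift.act.left ⁻¹ᵁ B.V.left.basicOpen f = (snd G B.V).left ⁻¹ᵁ B.V.left.basicOpen f := by
  rw [Scheme.preimage_basicOpen, Scheme.preimage_basicOpen]
  exact congrArg _ hf

variable {n : ℕ} {f : Γ(B.V.left, ⊤)}

/-- The non-vanishing locus of an invariant section is invariant. -/
theorem preimage_nv (hw : GLinSh.HasWeight B.atlas.chart n f) (hf : GLinSh.IsInvFn B.lift f) :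
    a.act.left ⁻¹ᵁ nv B.atlas hw = (snd G X).left ⁻¹ᵁ nv B.atlas hw := by
  have key : ∀ q : (G ⊗ X).left, (snd G X).left.base q ∈ nv B.atlas hw → a.act.left.base q ∈ nv B.atlas hw := by
    intro q hq
    obtain ⟨v, hv, hvq⟩ := exists_mem_basicOpen B.atlas hw hq
    obtain ⟨w, hwq, hwv⟩ := exists_point_over B q v hvq.symm
    refine ⟨B.lift.act.left.base w, ?_, ?_⟩
    · have : w ∈ (snd G B.V).left ⁻¹ᵁ B.V.left.basicOpen f := by
        show (snd G B.V).left.base w ∈ B.V.left.basicOpen f; rwa [hwv]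
      rw [← preimage_basicOpen_of_isInvFn hf] at this
      exact this
    · show (B.lift.act ≫ B.π).left.base w = _
      rw [B.lift_π]
      show a.act.left.base ((G ◁ B.π).left.base w) = _
      rw [hwq]
  let τ : G ⊗ X ⟶ G ⊗ X := lift (fst G X)⁻¹ a.act
  have h1 : τ ≫ a.act = snd G X := by
    have := Groth.L14.GITAff.act_act' a (fst G X)⁻¹ (fst G X) (snd G X)
    rw [lift_fst_snd, Category.id_comp, inv_mul_cancel, Groth.L14.GITAff.act_one'] at this
    exact this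
  have h2 : τ ≫ snd G X = a.act := lift_snd _ _
  ext q
  refine ⟨fun hq => ?_, fun hq => key q hq⟩
  have := key (τ.left.base q) (by
    show (τ ≫ snd G X).left.base q ∈ nv B.atlas hw
    rw [h2]; exact hq)
  show (snd G X).left.base q ∈ nv B.atlas hw
  rw [← h1]
  exact this

/-- Pullback of a section of the base through the lifted action. -/
theorem lift_appLE_app {O : X.left.Opens} {Q : (G ⊗ X).left.Opens} {R : (G ⊗ B.V).left.Opens}
    (hQ : Q ≤ a.act.left ⁻¹ᵁ O) (hR : R ≤ (G ◁ B.π).left ⁻¹ᵁ Q) (hR' : R ≤ B.lift.act.left ⁻¹ᵁ (B.π.left ⁻¹ᵁ O))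
    (h : Γ(X.left, O)) :
    B.lift.act.left.appLE (B.π.left ⁻¹ᵁ O) R hR' (B.π.left.app O h) =
      (G ◁ B.π).left.appLE Q R hR (a.act.left.appLE O Q hQ h) := by
  show (B.π.left.app O ≫ B.lift.act.left.appLE (B.π.left ⁻¹ᵁ O) R hR') h =
    (a.act.left.appLE O Q hQ ≫ (G ◁ B.π).left.appLE Q R hR) h
  rw [Scheme.Hom.app_eq_appLE, Scheme.Hom.appLE_comp_appLE, Scheme.Hom.appLE_comp_appLE]
  exact congrArg (fun q : Γ(X.left, O) ⟶ _ => q h)
    (Groth.L18.GITQ.appLE_congr_mor (congrArg CommaMorphism.left B.lift_π) O R _ _)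

theorem snd_appLE_app {O : X.left.Opens} {Q : (G ⊗ X).left.Opens} {R : (G ⊗ B.V).left.Opens}
    (hQ : Q ≤ (snd G X).left ⁻¹ᵁ O) (hR : R ≤ (G ◁ B.π).left ⁻¹ᵁ Q)
    (hR' : R ≤ (snd G B.V).left ⁻¹ᵁ (B.π.left ⁻¹ᵁ O)) (h : Γ(X.left, O)) :
    (snd G B.V).left.appLE (B.π.left ⁻¹ᵁ O) R hR' (B.π.left.app O h) =
      (G ◁ B.π).left.appLE Q R hR ((snd G X).left.appLE O Q hQ h) := by
  show (B.π.left.app O ≫ (snd G B.V).left.appLE (B.π.left ⁻¹ᵁ O) R hR') h =
    ((snd G X).left.appLE O Q hQ ≫ (G ◁ B.π).left.appLE Q R hR) h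
  rw [Scheme.Hom.app_eq_appLE, Scheme.Hom.appLE_comp_appLE, Scheme.Hom.appLE_comp_appLE]
  exact congrArg (fun q : Γ(X.left, O) ⟶ _ => q h)
    (Groth.L18.GITQ.appLE_congr_mor (congrArg CommaMorphism.left (whiskerLeft_snd G B.π).symm) O R _ _)

theorem appLE_res {P P' : Scheme.{u}} (φ : P ⟶ P') {U U' : P'.Opens} (hU : U' ≤ U) {W : P.Opens}
    (hW : W ≤ φ ⁻¹ᵁ U') (z : Γ(P', U)) :
    φ.appLE U' W hW (P'.presheaf.map (homOfLE hU).op z) = φ.appLE U W (hW.trans (φ.preimage_mono hU)) z := by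
  rw [← CommRingCat.comp_apply, Scheme.Hom.map_appLE]

/-- The quotient of invariant sections is invariant. -/
theorem invOn_of_eq (hw : GLinSh.HasWeight B.atlas.chart n f) (hf : GLinSh.IsInvFn B.lift f) {m : ℕ}
    {F : Γ(B.V.left, ⊤)} (hF : GLinSh.IsInvFn B.lift F) {O : X.left.Opens} (hO : O ≤ nv B.atlas hw)
    {h : Γ(X.left, O)} (e : GLinSh.resTop B.π O F = B.π.left.app O h * GLinSh.resTop B.π O f ^ m) :
    InvOn a O h := by
  haveI := flat_whiskerLeft_π B
  set Q := a.act.left ⁻¹ᵁ O ⊓ (snd G X).left ⁻¹ᵁ O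
  set R := (G ◁ B.π).left ⁻¹ᵁ Q ⊓ (snd G B.V).left ⁻¹ᵁ B.V.left.basicOpen f
  have hRQ : R ≤ (G ◁ B.π).left ⁻¹ᵁ Q := inf_le_left
  have hR1 : R ≤ B.lift.act.left ⁻¹ᵁ (B.π.left ⁻¹ᵁ O) := by
    refine hRQ.trans ?_
    show (G ◁ B.π).left ⁻¹ᵁ Q ≤ (B.lift.act ≫ B.π).left ⁻¹ᵁ O
    rw [B.lift_π]
    exact (G ◁ B.π).left.preimage_mono inf_le_left
  have hR2 : R ≤ (snd G B.V).left ⁻¹ᵁ (B.π.left ⁻¹ᵁ O) := by
    refine hRQ.trans ?_
    show (G ◁ B.π).left ⁻¹ᵁ Q ≤ (snd G B.V ≫ B.π).left ⁻¹ᵁ O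
    rw [← whiskerLeft_snd]
    exact (G ◁ B.π).left.preimage_mono inf_le_right
  refine injective_appLE_of_flat (G ◁ B.π).left Q R hRQ (fun q hq => ?_) ?_
  · obtain ⟨v, hv, hvq⟩ := exists_mem_basicOpen B.atlas hw (hO hq.2)
    obtain ⟨w, hwq, hwv⟩ := exists_point_over B q v hvq.symm
    exact ⟨w, ⟨show (G ◁ B.π).left.base w ∈ Q by rw [hwq]; exact hq,
      show (snd G B.V).left.base w ∈ B.V.left.basicOpen f by rw [hwv]; exact hv⟩, hwq⟩
  · have e1 := congrArg (B.lift.act.left.appLE _ R hR1) e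
    have e2 := congrArg ((snd G B.V).left.appLE _ R hR2) e
    rw [map_mul, map_pow, GLinSh.resTop, GLinSh.resTop, appLE_res, appLE_res,
      lift_appLE_app inf_le_left hRQ] at e1
    rw [map_mul, map_pow, GLinSh.resTop, GLinSh.resTop, appLE_res, appLE_res,
      snd_appLE_app inf_le_right hRQ] at e2
    have inv : ∀ {z : Γ(B.V.left, ⊤)}, GLinSh.IsInvFn B.lift z →
        B.lift.act.left.appLE ⊤ R le_top z = (snd G B.V).left.appLE ⊤ R le_top z := fun {z} hz => by
      rw [Scheme.Hom.appLE, Scheme.Hom.appLE, CommRingCat.comp_apply, CommRingCat.comp_apply]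
      exact congrArg _ hz
    rw [inv hF, inv hf, e2] at e1
    refine (IsUnit.mul_right_cancel (IsUnit.pow m ?_) e1).symm
    have hu : IsUnit ((snd G B.V).left.appLE (B.V.left.basicOpen f) R inf_le_right
        (rsV (B.V.left.basicOpen_le f) f)) := (isUnit_resTop_basicOpen f).map _
    rwa [rsV, appLE_res] at hu

/-- An invariant function on the non-vanishing locus times a power of `f` is an invariant section. -/
theorem exists_inv_extend [CompactSpace X.left] [QuasiSeparatedSpace X.left] [CompactSpace (G ⊗ B.V).left]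
    (hw : GLinSh.HasWeight B.atlas.chart n f) (hf : GLinSh.IsInvFn B.lift f)
    (h : Γ(X.left, nv B.atlas hw)) (hh : InvOn a _ h) :
    ∃ (M : ℕ) (F : Γ(B.V.left, ⊤)), B.IsInvSection (n * M) F ∧
      GLinSh.resTop B.π (nv B.atlas hw) F = B.π.left.app _ h * GLinSh.resTop B.π (nv B.atlas hw) f ^ M := by
  obtain ⟨M, F, hF, e⟩ := exists_extend B.atlas hw h
  set O := nv B.atlas hw
  set Q := a.act.left ⁻¹ᵁ O ⊓ (snd G X).left ⁻¹ᵁ O
  let D := (G ⊗ B.V).left.basicOpen ((snd G B.V).left.appTop f)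
  have hD2 : D ≤ (snd G B.V).left ⁻¹ᵁ (B.π.left ⁻¹ᵁ O) := by
    intro w hw'
    refine basicOpen_le_nv B.atlas hw ?_
    show w ∈ (snd G B.V).left ⁻¹ᵁ B.V.left.basicOpen f
    rw [Scheme.preimage_basicOpen]
    exact hw'
  have hD1 : D ≤ B.lift.act.left ⁻¹ᵁ (B.π.left ⁻¹ᵁ O) := by
    intro w hw'
    refine basicOpen_le_nv B.atlas hw ?_
    show w ∈ B.lift.act.left ⁻¹ᵁ B.V.left.basicOpen f
    rw [preimage_basicOpen_of_isInvFn hf, Scheme.preimage_basicOpen]
    exact hw'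
  have hDQ : D ≤ (G ◁ B.π).left ⁻¹ᵁ Q := fun w hw' => ⟨by
      show ((G ◁ B.π) ≫ a.act).left.base w ∈ O
      rw [← B.lift_π]; exact hD1 hw',
    by
      show ((G ◁ B.π) ≫ snd G X).left.base w ∈ O
      rw [whiskerLeft_snd]; exact hD2 hw'⟩
  have key : (B.lift.act.left.appTop F - (snd G B.V).left.appTop F) |_ D = 0 := by
    simp only [TopCat.Presheaf.restrictOpenCommRingCat_apply, map_sub, sub_eq_zero]
    have e1 := congrArg (B.lift.act.left.appLE _ D hD1) e
    have e2 := congrArg ((snd G B.V).left.appLE _ D hD2) e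
    rw [map_mul, map_pow, GLinSh.resTop, GLinSh.resTop, appLE_res, appLE_res,
      lift_appLE_app inf_le_left hDQ] at e1
    rw [map_mul, map_pow, GLinSh.resTop, GLinSh.resTop, appLE_res, appLE_res,
      snd_appLE_app inf_le_right hDQ] at e2
    have hh' := congrArg ((G ◁ B.π).left.appLE Q D hDQ) hh
    have hf' : B.lift.act.left.appLE ⊤ D le_top f = (snd G B.V).left.appLE ⊤ D le_top f := by
      rw [Scheme.Hom.appLE, Scheme.Hom.appLE, CommRingCat.comp_apply, CommRingCat.comp_apply]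
      exact congrArg _ hf
    rw [hh', hf', ← e2] at e1
    rw [Scheme.Hom.appLE, Scheme.Hom.appLE, CommRingCat.comp_apply, CommRingCat.comp_apply] at e1
    exact e1
  obtain ⟨r, hr⟩ := exists_pow_mul_eq_zero_of_res_basicOpen_eq_zero_of_isCompact (G ⊗ B.V).left
    (U := ⊤) isCompact_univ _ _ key
  refine ⟨r + M, f ^ r * F, ⟨?_, ?_⟩, ?_⟩
  · rw [Nat.mul_add]
    exact hasWeight_mul B.atlas (hasWeight_pow B.atlas hw r) hF
  · rw [GLinSh.IsInvFn, map_mul, map_mul, map_pow, map_pow, hf, ← sub_eq_zero, ← mul_sub]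
    exact hr
  · rw [GLinSh.resTop, map_mul, map_pow, pow_add]
    change GLinSh.resTop B.π O f ^ r * GLinSh.resTop B.π O F = _
    rw [e]; ring

end Groth.L14.GITLin
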