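import Groth.Agent.L14.GITLin.Quot

/-!
# The quotient of the semi-stable locus of a linearised line bundle
-/

set_option autoImplicit false
set_option linter.style.haveILetI false
set_option backward.isDefEq.respectTransparency false
set_option backward.isDefEq.respectTransparency.types false

noncomputable section

universe u

open CategoryTheory MonoidalCategory CartesianMonoidalCategory MonObj AlgebraicGeometry TopologicalSpace Opposite

namespace Groth.L14.GITLin

variable {k : Type u} [Field k]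

attribute [local instance] secAlg

variable {G X : Over (Spec (CommRingCat.of k))} [GrpObj G] {a : AlgGrp.Action G X} {B : GLinSh.LinBun G a}

theorem loc_le_ss {N : ℕ} (hN : 1 ≤ N) {f : Γ(B.V.left, ⊤)} (hf : B.IsInvSection (N * 1) f)
    (haff : IsAffineOpen (loc hf)) : ((loc hf : X.left.Opens) : Set X.left) ⊆ B.ssLocus :=
  fun _ hx => ⟨N * 1, f, by omega, hf, hx, loc hf, rfl, haff⟩

/-- Finitely many invariant sections of the same weight cover the semi-stable locus; the loci of given sections can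
be prescribed among theirs. -/
theorem exists_data_with [LocallyOfFiniteType X.hom] [QuasiCompact X.hom] (U : X.left.Opens)
    (hU : (U : Set X.left) = B.ssLocus) {K : Type u} [Finite K] (n' : K → ℕ) (g' : K → Γ(B.V.left, ⊤))
    (W' : K → X.left.Opens) (hn' : ∀ i, 1 ≤ n' i) (hg' : ∀ i, B.IsInvSection (n' i) (g' i))
    (hW' : ∀ i, (W' i : Set X.left) = GLinSh.nonvanishing B.π (g' i)) (haff' : ∀ i, IsAffineOpen (W' i)) :
    ∃ (N : ℕ) (J : Type u) (_ : Finite J) (f : J → Γ(B.V.left, ⊤)) (hf : ∀ i, B.IsInvSection (N * 1) (f i))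
      (q : K → J),
      1 ≤ N ∧ (∀ i, IsAffineOpen (loc (hf i))) ∧ dom hf = U ∧ ∀ i, loc (hf (q i)) = W' i := by
  haveI : CompactSpace X.left := QuasiCompact.compactSpace_of_compactSpace X.hom
  haveI : IsLocallyNoetherian X.left := LocallyOfFiniteType.isLocallyNoetherian X.hom
  haveI : IsNoetherian X.left := AlgebraicGeometry.IsNoetherian.mk
  haveI : NoetherianSpace X.left := inferInstance
  haveI : Fintype K := Fintype.ofFinite K
  choose n₀ g₀ hn₀ hg₀ hxg Ug hUg haff using fun x : U => (hU.le x.2 : B.IsSemistablePt x.1)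
  obtain ⟨t, ht⟩ := (NoetherianSpace.isCompact (U : Set X.left)).elim_finite_subcover
    (fun x : U => (Ug x : Set X.left)) (fun x => (Ug x).2)
    (fun x hx => Set.mem_iUnion.2 ⟨⟨x, hx⟩, (hUg ⟨x, hx⟩).ge (hxg ⟨x, hx⟩)⟩)
  let n : t ⊕ K → ℕ := Sum.elim (fun x => n₀ x.1) n'
  let g : t ⊕ K → Γ(B.V.left, ⊤) := Sum.elim (fun x => g₀ x.1) g'
  let W : t ⊕ K → X.left.Opens := Sum.elim (fun x => Ug x.1) W'
  have hn : ∀ i, 1 ≤ n i := Sum.rec (fun x => hn₀ x.1) hn'
  have hg : ∀ i, B.IsInvSection (n i) (g i) := Sum.rec (fun x => hg₀ x.1) hg'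
  have hW : ∀ i, (W i : Set X.left) = GLinSh.nonvanishing B.π (g i) := Sum.rec (fun x => hUg x.1) hW'
  have hWa : ∀ i, IsAffineOpen (W i) := Sum.rec (fun x => haff x.1) haff'
  let N := ∏ i, n i
  have hN : 1 ≤ N := Nat.one_le_iff_ne_zero.2 (Finset.prod_ne_zero_iff.2 fun x _ => by have := hn x; omega)
  have hdvd : ∀ i, n i ∣ N := fun i => Finset.dvd_prod_of_mem _ (Finset.mem_univ i)
  have hpos : ∀ i, 0 < N / n i := fun i => Nat.div_pos (Nat.le_of_dvd hN (hdvd i)) (hn i)
  have hf : ∀ i, B.IsInvSection (N * 1) (g i ^ (N / n i)) := fun i =>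
    sec_congr (sec_pow (hg i) _) (by rw [Nat.mul_div_cancel' (hdvd i), Nat.mul_one])
  have hloc : ∀ i, loc (hf i) = W i := fun i => Opens.ext (by
    show GLinSh.nonvanishing B.π (g i ^ (N / n i)) = _
    rw [nonvanishing_pow (hpos i), hW])
  have haff'' : ∀ i, IsAffineOpen (loc (hf i)) := fun i => by rw [hloc i]; exact hWa i
  refine ⟨N, t ⊕ K, inferInstance, fun i => g i ^ (N / n i), hf, Sum.inr, hN, haff'',
    le_antisymm ?_ (fun x hx => ?_), fun i => hloc (Sum.inr i)⟩
  · exact iSup_le fun i x hx => hU.ge (loc_le_ss hN (hf i) (haff'' i) hx)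
  · obtain ⟨y, hy, hxy⟩ := Set.mem_iUnion₂.1 (ht hx)
    exact Opens.mem_iSup.2 ⟨Sum.inl ⟨y, hy⟩, (hloc (Sum.inl ⟨y, hy⟩)).ge hxy⟩

/-- Finitely many invariant sections of the same weight cover the semi-stable locus. -/
theorem exists_data [LocallyOfFiniteType X.hom] [QuasiCompact X.hom] (U : X.left.Opens)
    (hU : (U : Set X.left) = B.ssLocus) :
    ∃ (N : ℕ) (J : Type u) (_ : Finite J) (f : J → Γ(B.V.left, ⊤)) (hf : ∀ i, B.IsInvSection (N * 1) (f i)),
      1 ≤ N ∧ (∀ i, IsAffineOpen (loc (hf i))) ∧ dom hf = U := by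
  obtain ⟨N, J, hJ, f, hf, -, h1, h2, h3, -⟩ := exists_data_with U hU (K := PEmpty) PEmpty.elim PEmpty.elim
    PEmpty.elim (fun i => i.elim) (fun i => i.elim) (fun i => i.elim) (fun i => i.elim)
  exact ⟨N, J, hJ, f, hf, h1, h2, h3⟩

/-- A uniform (indeed universal) categorical quotient of the semi-stable locus. -/
theorem exists_quotient [CharZero k] (hG : Red.IsReductive G) [LocallyOfFiniteType X.hom] [QuasiCompact X.hom]
    (U : X.left.Opens) (hU : (U : Set X.left) = B.ssLocus)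
    (aU : AlgGrp.Action G (Over.mk (U.ι ≫ X.hom)))
    (jU : Over.mk (U.ι ≫ X.hom) ⟶ X) (hjU : jU.left = U.ι)
    (haU : aU.act ≫ jU = (G ◁ jU) ≫ a.act) :
    ∃ (Y : Over (Spec (CommRingCat.of k))) (φ : Over.mk (U.ι ≫ X.hom) ⟶ Y),
      GIT.IsUnivCatQuot aU φ ∧ IsAffineHom φ.left ∧ GIT.IsUnivSubmersive φ.left ∧
      IsSeparated Y.hom ∧ LocallyOfFiniteType Y.hom ∧
      ∃ M : Y.left.Modules, CohB1.IsAmple M := by
  obtain ⟨N, J, _, f, hf, -, haff, rfl⟩ := exists_data U hU
  obtain ⟨h1, h2, h3, h4, h5⟩ := quotPhi_spec hf aU jU hjU haU hG haff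
  exact ⟨quotY hf, quotPhi hf, h1, h2, h3, inferInstance, h4, h5⟩

end Groth.L14.GITLin
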