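import Groth.Agent.L14.GITLin.Graded
import Mathlib.AlgebraicGeometry.ProjectiveSpectrum.Basic
import Mathlib.AlgebraicGeometry.ProjectiveSpectrum.Proper

/-!
# The morphism from the semi-stable locus to the projective spectrum of invariants
-/

set_option autoImplicit false
set_option linter.style.haveILetI false
set_option backward.isDefEq.respectTransparency false
set_option backward.isDefEq.respectTransparency.types false

set_option maxHeartbeats 1000000

noncomputable section

universe u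

open CategoryTheory MonoidalCategory CartesianMonoidalCategory MonObj AlgebraicGeometry TopologicalSpace Opposite

namespace Groth.L14.GITLin

variable {k : Type u} [Field k]

attribute [local instance] secAlg

variable {G X : Over (Spec (CommRingCat.of k))} [GrpObj G] {a : AlgGrp.Action G X} {B : GLinSh.LinBun G a} {N : ℕ}

/-- The projective spectrum of invariant sections. -/
abbrev invProj (B : GLinSh.LinBun G a) (N : ℕ) : Scheme.{u} := Proj (deg B N)

/-- Its structure map. -/
def invProjHom (B : GLinSh.LinBun G a) (N : ℕ) : invProj B N ⟶ Spec (CommRingCat.of k) :=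
  Proj.toSpecZero (deg B N) ≫ Spec.map (CommRingCat.ofHom (R := k) (S := ↥(deg B N 0)) (algebraMap k (deg B N 0)))

instance : IsSeparated (invProjHom B N) := by
  unfold invProjHom; infer_instance

variable {m : ℕ} {f : Γ(B.V.left, ⊤)} (hf : B.IsInvSection (N * m) f)

/-- The affine piece. -/
def piece : (loc hf).toScheme ⟶ Spec (CommRingCat.of (HomogeneousLocalization.Away (deg B N) (mkDeg hf))) :=
  (loc hf).toSpecΓ ≫ Spec.map (CommRingCat.ofHom (theta hf))

theorem piece_toBase :
    piece hf ≫ Spec.map (CommRingCat.ofHom (HomogeneousLocalization.fromZeroRingHom (deg B N) _)) ≫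
      Spec.map (CommRingCat.ofHom (R := k) (S := ↥(deg B N 0)) (algebraMap k (deg B N 0))) = (loc hf).ι ≫ X.hom := by
  rw [piece, Category.assoc, ← Spec.map_comp, ← Spec.map_comp]
  have e : CommRingCat.ofHom (R := k) (S := ↥(deg B N 0)) (algebraMap k (deg B N 0)) ≫
      CommRingCat.ofHom (HomogeneousLocalization.fromZeroRingHom (deg B N) (Submonoid.powers (mkDeg hf))) ≫
        CommRingCat.ofHom (theta hf) =
      ((Scheme.ΓSpecIso (CommRingCat.of k)).inv ≫ X.hom.appTop) ≫ X.left.presheaf.map (homOfLE le_top).op :=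
    CommRingCat.hom_ext (RingHom.ext fun c => theta_algebraMap hf c)
  rw [Category.assoc, e, Spec.map_comp, Spec.map_comp]
  rw [Scheme.Opens.toSpecΓ_SpecMap_presheaf_map_top_assoc,
    ← Scheme.toSpecΓ_naturality_assoc]
  rw [show (Spec (CommRingCat.of k)).toSpecΓ ≫ Spec.map (Scheme.ΓSpecIso (CommRingCat.of k)).inv = 𝟙 _ by
    rw [← SpecMap_ΓSpecIso_hom, ← Spec.map_comp, Iso.inv_hom_id, Spec.map_id], Category.comp_id]

variable {e : ℕ} {g : Γ(B.V.left, ⊤)} (hg : B.IsInvSection (N * e) g)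

theorem loc_mul {h : Γ(B.V.left, ⊤)} (hh : B.IsInvSection (N * (m + e)) h) (heq : h = f * g) :
    loc hh = loc hf ⊓ loc hg :=
  Opens.ext (by
    show GLinSh.nonvanishing B.π h = _
    rw [heq, nonvanishing_mul B.atlas hf.1 hg.1]; rfl)

include hf hg in
theorem sec_fg : B.IsInvSection (N * (m + e)) (f * g) := sec_congr (sec_mul hf hg) (Nat.mul_add N m e).symm

theorem loc_mul_le : loc (sec_fg hf hg) ≤ loc hf := (loc_mul hf hg _ rfl).le.trans inf_le_left

theorem loc_mul_le' : loc (sec_fg hf hg) ≤ loc hg := (loc_mul hf hg _ rfl).le.trans inf_le_right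

theorem piece_awayMap {h : Γ(B.V.left, ⊤)} (hh : B.IsInvSection (N * (m + e)) h) (heq : h = f * g)
    (hx : mkDeg hh = mkDeg hf * mkDeg hg) (hle : loc hh ≤ loc hf) :
    piece hh ≫ Spec.map (CommRingCat.ofHom (HomogeneousLocalization.awayMap (deg B N) (mkDeg_mem hg) hx)) =
      X.left.homOfLE hle ≫ piece hf := by
  rw [piece, piece, Category.assoc, ← Spec.map_comp, ← Scheme.Opens.toSpecΓ_SpecMap_presheaf_map_assoc _ _ hle,
    ← Spec.map_comp]
  congr 2
  exact CommRingCat.hom_ext (RingHom.ext fun z => theta_awayMap hf hg hh heq hx hle z)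

theorem piece_preimage (hm : 0 < m) (he : 0 < e) :
    (piece hf ≫ Proj.awayι (deg B N) (mkDeg hf) (mkDeg_mem hf) hm) ⁻¹ᵁ Proj.basicOpen (deg B N) (mkDeg hg) =
      (loc hf).ι ⁻¹ᵁ loc hg := by
  rw [Scheme.Hom.comp_preimage, Proj.awayι_preimage_basicOpen (deg B N) (mkDeg_mem hf) hm (mkDeg_mem hg) he, piece,
    Scheme.Hom.comp_preimage, SpecMap_preimage_basicOpen, Scheme.Opens.toSpecΓ_preimage_basicOpen]
  ext z
  show (loc hf).ι.base z ∈ (X.left.basicOpen (theta hf (HomogeneousLocalization.Away.isLocalizationElem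
    (mkDeg_mem hf) (mkDeg_mem hg))) : Set X.left) ↔ _
  rw [basicOpen_theta hf hg hm]
  exact ⟨fun h => h.1, fun h => ⟨h, z.2⟩⟩

variable {J : Type u} {f : J → Γ(B.V.left, ⊤)} (hf : ∀ i, B.IsInvSection (N * 1) (f i))

/-- The union of the non-vanishing loci. -/
def dom : X.left.Opens := ⨆ i, loc (hf i)

theorem le_dom (i : J) : loc (hf i) ≤ dom hf := le_iSup (fun i => loc (hf i)) i

/-- The cover by the pieces. -/
def cover : (dom hf).toScheme.OpenCover :=
  Scheme.Cover.mkOfCovers J (fun i => (loc (hf i)).toScheme) (fun i => X.left.homOfLE (le_dom hf i))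
    (fun z => by
      obtain ⟨i, hi⟩ := Opens.mem_iSup.1 z.2
      exact ⟨i, ⟨z.1, hi⟩, Subtype.ext (Scheme.homOfLE_apply _ _)⟩) (fun _ => inferInstance)

/-- The composite to the projective spectrum on a piece. -/
def toProj (i : J) : (loc (hf i)).toScheme ⟶ invProj B N :=
  piece (hf i) ≫ Proj.awayι (deg B N) (mkDeg (hf i)) (mkDeg_mem (hf i)) Nat.one_pos

theorem toProj_mul (i j : J) :
    X.left.homOfLE (loc_mul_le (hf i) (hf j)) ≫ toProj hf i =
      X.left.homOfLE (loc_mul_le' (hf i) (hf j)) ≫ toProj hf j := by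
  rw [toProj, toProj, ← Category.assoc, ← Category.assoc,
    ← piece_awayMap (hf i) (hf j) (sec_fg (hf i) (hf j)) rfl (mkDeg_mul (hf i) (hf j)).symm (loc_mul_le (hf i) (hf j)),
    ← piece_awayMap (hf j) (hf i) (h := f i * f j) (sec_fg (hf i) (hf j)) (mul_comm _ _)
      (((mkDeg_mul (hf i) (hf j)).symm).trans (mul_comm _ _)) (loc_mul_le' (hf i) (hf j)),
    Category.assoc, Category.assoc, Proj.SpecMap_awayMap_awayι, Proj.SpecMap_awayMap_awayι]

theorem toProj_compat (i j : J) :
    Limits.pullback.fst ((cover hf).f i) ((cover hf).f j) ≫ toProj hf i =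
      Limits.pullback.snd ((cover hf).f i) ((cover hf).f j) ≫ toProj hf j := by
  let P := Limits.pullback ((cover hf).f i) ((cover hf).f j)
  let p₁ : P ⟶ (loc (hf i)).toScheme := Limits.pullback.fst _ _
  let p₂ : P ⟶ (loc (hf j)).toScheme := Limits.pullback.snd _ _
  have hp : p₁ ≫ (loc (hf i)).ι = p₂ ≫ (loc (hf j)).ι := by
    rw [← Scheme.homOfLE_ι X.left (le_dom hf i), ← Scheme.homOfLE_ι X.left (le_dom hf j), ← Category.assoc,
      ← Category.assoc]
    exact congrArg (· ≫ (dom hf).ι) Limits.pullback.condition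
  have hr : Set.range (p₁ ≫ (loc (hf i)).ι).base ⊆ Set.range (loc (sec_fg (hf i) (hf j))).ι.base := by
    rintro _ ⟨z, rfl⟩
    have h1 : (p₁ ≫ (loc (hf i)).ι).base z ∈ loc (hf i) := (p₁.base z).2
    have h2 : (p₁ ≫ (loc (hf i)).ι).base z ∈ loc (hf j) := by rw [hp]; exact (p₂.base z).2
    refine (Scheme.Opens.range_ι _).ge ?_
    exact (loc_mul (hf i) (hf j) (sec_fg (hf i) (hf j)) rfl).ge ⟨h1, h2⟩
  let q := IsOpenImmersion.lift _ _ hr
  have hq : q ≫ (loc (sec_fg (hf i) (hf j))).ι = p₁ ≫ (loc (hf i)).ι := IsOpenImmersion.lift_fac _ _ _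
  have q1 : q ≫ X.left.homOfLE (loc_mul_le (hf i) (hf j)) = p₁ := by
    rw [← cancel_mono (loc (hf i)).ι, Category.assoc, Scheme.homOfLE_ι, hq]
  have q2 : q ≫ X.left.homOfLE (loc_mul_le' (hf i) (hf j)) = p₂ := by
    rw [← cancel_mono (loc (hf j)).ι, Category.assoc, Scheme.homOfLE_ι, hq, hp]
  show p₁ ≫ toProj hf i = p₂ ≫ toProj hf j
  rw [← q1, ← q2, Category.assoc, Category.assoc, toProj_mul]

/-- The morphism on the union of the loci. -/
def phiProj : (dom hf).toScheme ⟶ invProj B N := (cover hf).glueMorphisms (toProj hf) (toProj_compat hf)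

theorem homOfLE_phiProj (i : J) : X.left.homOfLE (le_dom hf i) ≫ phiProj hf = toProj hf i :=
  (cover hf).ι_glueMorphisms _ (toProj_compat hf) i

theorem phiProj_hom : phiProj hf ≫ invProjHom B N = (dom hf).ι ≫ X.hom := by
  refine (cover hf).hom_ext _ _ fun i => ?_
  show X.left.homOfLE (le_dom hf i) ≫ _ = X.left.homOfLE (le_dom hf i) ≫ _
  rw [← Category.assoc, homOfLE_phiProj, ← Category.assoc, Scheme.homOfLE_ι, invProjHom, toProj, Category.assoc,
    Proj.awayι_toSpecZero_assoc, piece_toBase]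

theorem toProj_mem_basicOpen (he : 0 < e) (i : J) (w : (loc (hf i)).toScheme) :
    (toProj hf i).base w ∈ Proj.basicOpen (deg B N) (mkDeg hg) ↔ (loc (hf i)).ι.base w ∈ loc hg :=
  SetLike.ext_iff.1 (piece_preimage (hf i) hg Nat.one_pos he) w

theorem phiProj_preimage (he : 0 < e) :
    phiProj hf ⁻¹ᵁ Proj.basicOpen (deg B N) (mkDeg hg) = (dom hf).ι ⁻¹ᵁ loc hg := by
  refine SetLike.ext fun z => ?_
  obtain ⟨i, w, rfl⟩ := (cover hf).exists_eq z
  show (X.left.homOfLE (le_dom hf i) ≫ phiProj hf).base w ∈ Proj.basicOpen (deg B N) (mkDeg hg) ↔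
    (X.left.homOfLE (le_dom hf i) ≫ (dom hf).ι).base w ∈ loc hg
  rw [homOfLE_phiProj, Scheme.homOfLE_ι]
  exact toProj_mem_basicOpen hg hf he i w

/-- The union of the basic opens. -/
def target : (invProj B N).Opens := ⨆ i, Proj.basicOpen (deg B N) (mkDeg (hf i))

theorem range_phiProj : Set.range (phiProj hf).base ⊆ Set.range (target hf).ι.base := by
  rintro _ ⟨z, rfl⟩
  obtain ⟨i, hi⟩ := Opens.mem_iSup.1 z.2
  refine (Scheme.Opens.range_ι _).ge (Opens.mem_iSup.2 ⟨i, ?_⟩)
  exact (phiProj_preimage (g := f i) (e := 1) (hf i) hf Nat.one_pos).ge hi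

end Groth.L14.GITLin
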