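import Groth.Agent.L14.GITLin.Phi
import Groth.Agent.L14.GITLin.Glue
import Groth.Agent.L14.GITAff.Transport
import Groth.Agent.L14.GITAff.ClosedAction
import Groth.Agent.S9817

/-!
# The quotient of the semi-stable locus
-/

set_option autoImplicit false
set_option linter.style.haveILetI false
set_option backward.isDefEq.respectTransparency false
set_option backward.isDefEq.respectTransparency.types false
set_option maxHeartbeats 1000000

noncomputable section

universe u

open CategoryTheory MonoidalCategory CartesianMonoidalCategory MonObj AlgebraicGeometry TopologicalSpace Opposite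

namespace Groth.L14.GITLin

theorem appTop_toSpec {T : Scheme.{u}} (O : T.Opens) {R : Type u} [CommRing R] (θ : R →+* Γ(T, O))
    (z : Γ(Spec (CommRingCat.of R), ⊤)) :
    (O.toSpecΓ ≫ Spec.map (CommRingCat.ofHom θ)).appTop z =
      O.topIso.inv (θ ((Scheme.ΓSpecIso (CommRingCat.of R)).hom z)) := by
  have e : (O.toSpecΓ ≫ Spec.map (CommRingCat.ofHom θ)).appTop =
      (Scheme.ΓSpecIso (CommRingCat.of R)).hom ≫ CommRingCat.ofHom θ ≫ O.topIso.inv := by
    rw [Scheme.Hom.comp_appTop, Scheme.Opens.toSpecΓ_appTop, ← Category.assoc, Scheme.ΓSpecIso_naturality,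
      Category.assoc]
  rw [e]
  rfl

theorem appTop_topIso_inv {P T : Scheme.{u}} (O : T.Opens) (r : P ⟶ O.toScheme) (h : Γ(T, O))
    (e : ⊤ ≤ (r ≫ O.ι) ⁻¹ᵁ O) : r.appTop (O.topIso.inv h) = (r ≫ O.ι).appLE O ⊤ e h := by
  rw [← Scheme.Hom.appLE_comp_appLE r O.ι O ⊤ ⊤ (Scheme.Opens.ι_preimage_self _).ge le_rfl,
    CommRingCat.comp_apply, Scheme.Opens.ι_appLE, Scheme.Hom.appTop, Scheme.Hom.app_eq_appLE]
  rfl

theorem comp_toSpec_eq {P T : Scheme.{u}} (O : T.Opens) {R : Type u} [CommRing R] (θ : R →+* Γ(T, O))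
    (p q : P ⟶ O.toScheme) (e₁ : ⊤ ≤ (p ≫ O.ι) ⁻¹ᵁ O) (e₂ : ⊤ ≤ (q ≫ O.ι) ⁻¹ᵁ O)
    (h : ∀ z, (p ≫ O.ι).appLE O ⊤ e₁ (θ z) = (q ≫ O.ι).appLE O ⊤ e₂ (θ z)) :
    p ≫ O.toSpecΓ ≫ Spec.map (CommRingCat.ofHom θ) = q ≫ O.toSpecΓ ≫ Spec.map (CommRingCat.ofHom θ) := by
  refine ext_of_isAffine (CommRingCat.hom_ext (RingHom.ext fun z => ?_))
  show p.appTop ((O.toSpecΓ ≫ Spec.map (CommRingCat.ofHom θ)).appTop z) =
    q.appTop ((O.toSpecΓ ≫ Spec.map (CommRingCat.ofHom θ)).appTop z)
  rw [appTop_toSpec, appTop_topIso_inv O p _ e₁, appTop_topIso_inv O q _ e₂]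
  exact h _

theorem bijective_of_factor {T : Scheme.{u}} (O : T.Opens) {R : Type u} [CommRing R] (θ : R →+* Γ(T, O))
    (hθ : Function.Injective θ) {P : CommRingCat.{u}} (w : Γ(Spec (CommRingCat.of R), ⊤) ⟶ P)
    (v : P ⟶ Γ(O.toScheme, ⊤)) (hv : Function.Injective v)
    (htop : ∀ z, v (w z) = O.topIso.inv (θ ((Scheme.ΓSpecIso (CommRingCat.of R)).hom z)))
    (hr : ∀ y, O.topIso.hom (v y) ∈ Set.range θ) : Function.Bijective w := by
  refine ⟨fun z z' hzz => ?_, fun y => ?_⟩
  · exact (ConcreteCategory.bijective_of_isIso (Scheme.ΓSpecIso (CommRingCat.of R)).hom).1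
      (hθ ((ConcreteCategory.bijective_of_isIso O.topIso.inv).1
        ((htop z).symm.trans ((congrArg v hzz).trans (htop z')))))
  · obtain ⟨z, hz⟩ := hr y
    refine ⟨(Scheme.ΓSpecIso (CommRingCat.of R)).inv z, hv ?_⟩
    rw [htop, Iso.inv_hom_id_apply, hz, Iso.hom_inv_id_apply]

variable {k : Type u} [Field k]

attribute [local instance] secAlg

variable {G X : Over (Spec (CommRingCat.of k))} [GrpObj G] {a : AlgGrp.Action G X} {B : GLinSh.LinBun G a} {N : ℕ}
  {J : Type u} {f : J → Γ(B.V.left, ⊤)} (hf : ∀ i, B.IsInvSection (N * 1) (f i))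

/-- The union of the loci, over the base. -/
abbrev domOver : Over (Spec (CommRingCat.of k)) := Over.mk ((dom hf).ι ≫ X.hom)

/-- The quotient. -/
def quotY : Over (Spec (CommRingCat.of k)) := Over.mk ((target hf).ι ≫ invProjHom B N)

instance : IsSeparated (quotY hf).hom := inferInstanceAs (IsSeparated ((target hf).ι ≫ invProjHom B N))

/-- The quotient morphism. -/
def quotPhi : domOver hf ⟶ quotY hf :=
  Over.homMk (IsOpenImmersion.lift (target hf).ι (phiProj hf) (range_phiProj hf)) (by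
    show IsOpenImmersion.lift (target hf).ι (phiProj hf) (range_phiProj hf) ≫ (target hf).ι ≫ invProjHom B N = _
    rw [IsOpenImmersion.lift_fac_assoc, phiProj_hom]
    rfl)

theorem quotPhi_left_ι : (quotPhi hf).left ≫ (target hf).ι = phiProj hf :=
  IsOpenImmersion.lift_fac _ _ _

theorem quotPhi_preimage {e : ℕ} {g : Γ(B.V.left, ⊤)} (hg : B.IsInvSection (N * e) g) (he : 0 < e) :
    (quotPhi hf).left ⁻¹ᵁ ((target hf).ι ⁻¹ᵁ Proj.basicOpen (deg B N) (mkDeg hg)) = (dom hf).ι ⁻¹ᵁ loc hg := by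
  rw [← Scheme.Hom.comp_preimage, quotPhi_left_ι, phiProj_preimage hg hf he]

theorem compactSpace_dom [Finite J] (haff : ∀ i, IsAffineOpen (loc (hf i))) : CompactSpace (dom hf) := by
  refine isCompact_iff_compactSpace.1 ?_
  rw [dom, Opens.coe_iSup]
  exact isCompact_iUnion fun i => (haff i).isCompact

theorem compactSpace_target [Finite J] : CompactSpace (target hf) := by
  refine isCompact_iff_compactSpace.1 ?_
  rw [target, Opens.coe_iSup]
  exact isCompact_iUnion fun i => (Proj.isAffineOpen_basicOpen (deg B N) _ (mkDeg_mem (hf i)) Nat.one_pos).isCompact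

/-- The piece of the quotient. -/
abbrev pieceY (i : J) : Over (Spec (CommRingCat.of k)) :=
  Over.mk (Proj.awayι (deg B N) (mkDeg (hf i)) (mkDeg_mem (hf i)) Nat.one_pos ≫ invProjHom B N)

/-- The inclusion of a piece of the quotient. -/
def pieceYι (i : J) : pieceY hf i ⟶ quotY hf :=
  Over.homMk (IsOpenImmersion.lift (target hf).ι (Proj.awayι (deg B N) (mkDeg (hf i)) (mkDeg_mem (hf i)) Nat.one_pos) (by
    rintro _ ⟨z, rfl⟩
    refine (Scheme.Opens.range_ι _).ge (Opens.mem_iSup.2 ⟨i, ?_⟩)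
    exact (Proj.opensRange_awayι (deg B N) _ (mkDeg_mem (hf i)) Nat.one_pos).le ⟨z, rfl⟩)) (by
    show IsOpenImmersion.lift (target hf).ι _ _ ≫ (target hf).ι ≫ invProjHom B N = _
    rw [IsOpenImmersion.lift_fac_assoc]
    rfl)

theorem pieceYι_left_ι (i : J) :
    (pieceYι hf i).left ≫ (target hf).ι = Proj.awayι (deg B N) (mkDeg (hf i)) (mkDeg_mem (hf i)) Nat.one_pos :=
  IsOpenImmersion.lift_fac _ _ _

instance (i : J) : IsOpenImmersion (pieceYι hf i).left :=
  haveI : IsOpenImmersion ((pieceYι hf i).left ≫ (target hf).ι) := (pieceYι_left_ι hf i).symm ▸ inferInstance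
  IsOpenImmersion.of_comp _ (target hf).ι

theorem exists_mem_pieceYι (y : (quotY hf).left) : ∃ i, y ∈ Set.range (pieceYι hf i).left.base := by
  obtain ⟨i, hi⟩ := Opens.mem_iSup.1 (y : target hf).2
  obtain ⟨z, hz⟩ := (Proj.opensRange_awayι (deg B N) _ (mkDeg_mem (hf i)) Nat.one_pos).ge hi
  refine ⟨i, z, (target hf).ι.isOpenEmbedding.injective ?_⟩
  show ((pieceYι hf i).left ≫ (target hf).ι).base z = _
  rw [pieceYι_left_ι]
  exact hz

/-- The piece of the source. -/
abbrev pieceX (i : J) : Over (Spec (CommRingCat.of k)) := Over.mk ((loc (hf i)).ι ≫ X.hom)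

/-- The inclusion of a piece of the source. -/
def pieceXι (i : J) : pieceX hf i ⟶ domOver hf :=
  Over.homMk (X.left.homOfLE (le_dom hf i)) (by
    show X.left.homOfLE (le_dom hf i) ≫ (dom hf).ι ≫ X.hom = _
    rw [Scheme.homOfLE_ι_assoc]
    rfl)

/-- The quotient morphism on a piece. -/
def piecePhi (i : J) : pieceX hf i ⟶ pieceY hf i :=
  Over.homMk (piece (hf i)) (by
    show piece (hf i) ≫ Proj.awayι (deg B N) _ (mkDeg_mem (hf i)) Nat.one_pos ≫ invProjHom B N = _
    rw [invProjHom, Proj.awayι_toSpecZero_assoc, piece_toBase]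
    rfl)

theorem isPullback_piece (i : J) : IsPullback (pieceXι hf i) (piecePhi hf i) (quotPhi hf) (pieceYι hf i) := by
  have w : (pieceXι hf i).left ≫ (quotPhi hf).left = (piecePhi hf i).left ≫ (pieceYι hf i).left := by
    rw [← cancel_mono (target hf).ι, Category.assoc, Category.assoc, quotPhi_left_ι, pieceYι_left_ι]
    exact homOfLE_phiProj hf i
  refine Groth.L18.GITQ.isPullback_over (Over.OverMorphism.ext w) ?_
  haveI : IsOpenImmersion (pieceXι hf i).left := inferInstanceAs (IsOpenImmersion (X.left.homOfLE (le_dom hf i)))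
  refine (IsOpenImmersion.isPullback _ _ _ _ w ?_).flip
  have hr : (pieceYι hf i).left.opensRange = (target hf).ι ⁻¹ᵁ Proj.basicOpen (deg B N) (mkDeg (hf i)) := by
    rw [← Proj.opensRange_awayι (deg B N) _ (mkDeg_mem (hf i)) Nat.one_pos]
    refine Opens.ext (Set.ext fun y => ⟨fun ⟨z, hz⟩ => ⟨z, ?_⟩, fun ⟨z, hz⟩ => ⟨z, (target hf).ι.isOpenEmbedding.injective ?_⟩⟩)
    · rw [← hz]; exact (congrArg (fun q : (pieceY hf i).left ⟶ invProj B N => q.base z) (pieceYι_left_ι hf i)).symm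
    · exact (congrArg (fun q : (pieceY hf i).left ⟶ invProj B N => q.base z) (pieceYι_left_ι hf i)).trans hz
  rw [hr, quotPhi_preimage hf (hf i) Nat.one_pos]
  show (dom hf).ι ⁻¹ᵁ loc (hf i) = (X.left.homOfLE (le_dom hf i)).opensRange
  rw [Scheme.opensRange_homOfLE]

variable (aU : AlgGrp.Action G (domOver hf)) (jU : domOver hf ⟶ X) (hjU : jU.left = (dom hf).ι)
  (haU : aU.act ≫ jU = (G ◁ jU) ≫ a.act)

include hjU haU in
/-- The quotient morphism is invariant. -/
theorem invariant_quotPhi : GIT.IsInvariant aU (quotPhi hf) := by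
  apply Over.OverMorphism.ext
  show aU.act.left ≫ (quotPhi hf).left = (snd G (domOver hf)).left ≫ (quotPhi hf).left
  refine Scheme.hom_ext_of_forall _ _ fun z => ?_
  obtain ⟨i, hi⟩ := Opens.mem_iSup.1 ((snd G (domOver hf)).left.base z : dom hf).2
  let Q : (G ⊗ domOver hf).left.Opens := (snd G (domOver hf)).left ⁻¹ᵁ ((dom hf).ι ⁻¹ᵁ loc (hf i))
  refine ⟨Q, hi, ?_⟩
  let mm : (Q : Scheme.{u}) ⟶ (G ⊗ X).left := Q.ι ≫ (G ◁ jU).left
  have hact : (Q.ι ≫ aU.act.left) ≫ (dom hf).ι = mm ≫ a.act.left := by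
    show (Q.ι ≫ aU.act.left) ≫ (dom hf).ι = (Q.ι ≫ (G ◁ jU).left) ≫ a.act.left
    rw [Category.assoc, Category.assoc, ← hjU]
    exact congrArg (Q.ι ≫ ·) (congrArg CommaMorphism.left haU)
  have hsnd : (Q.ι ≫ (snd G (domOver hf)).left) ≫ (dom hf).ι = mm ≫ (snd G X).left := by
    show (Q.ι ≫ (snd G (domOver hf)).left) ≫ (dom hf).ι = (Q.ι ≫ (G ◁ jU).left) ≫ (snd G X).left
    rw [Category.assoc, Category.assoc, ← hjU]
    exact congrArg (Q.ι ≫ ·) (congrArg CommaMorphism.left (whiskerLeft_snd G jU).symm)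
  have hQ : ∀ w : Q, mm.base w ∈ (snd G X).left ⁻¹ᵁ loc (hf i) := fun w => by
    show (mm ≫ (snd G X).left).base w ∈ loc (hf i)
    rw [← hsnd]
    exact w.2
  have hQ' : ∀ w : Q, mm.base w ∈ a.act.left ⁻¹ᵁ loc (hf i) := fun w => by
    rw [preimage_nv (hf i).1 (hf i).2]; exact hQ w
  have hp : Set.range ((Q.ι ≫ aU.act.left) ≫ (dom hf).ι).base ⊆ Set.range (loc (hf i)).ι.base := by
    rintro _ ⟨w, rfl⟩
    rw [hact]
    exact (Scheme.Opens.range_ι _).ge (hQ' w)
  have hq : Set.range ((Q.ι ≫ (snd G (domOver hf)).left) ≫ (dom hf).ι).base ⊆ Set.range (loc (hf i)).ι.base := by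
    rintro _ ⟨w, rfl⟩
    rw [hsnd]
    exact (Scheme.Opens.range_ι _).ge (hQ w)
  let p := IsOpenImmersion.lift _ _ hp
  let q := IsOpenImmersion.lift _ _ hq
  have hp1 : p ≫ (loc (hf i)).ι = (Q.ι ≫ aU.act.left) ≫ (dom hf).ι := IsOpenImmersion.lift_fac _ _ _
  have hq1 : q ≫ (loc (hf i)).ι = (Q.ι ≫ (snd G (domOver hf)).left) ≫ (dom hf).ι := IsOpenImmersion.lift_fac _ _ _
  have hp2 : p ≫ (pieceXι hf i).left = Q.ι ≫ aU.act.left := by
    rw [← cancel_mono (dom hf).ι, Category.assoc, ← hp1]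
    exact congrArg (p ≫ ·) (Scheme.homOfLE_ι X.left (le_dom hf i))
  have hq2 : q ≫ (pieceXι hf i).left = Q.ι ≫ (snd G (domOver hf)).left := by
    rw [← cancel_mono (dom hf).ι, Category.assoc, ← hq1]
    exact congrArg (q ≫ ·) (Scheme.homOfLE_ι X.left (le_dom hf i))
  have key : p ≫ (piecePhi hf i).left = q ≫ (piecePhi hf i).left := by
    refine comp_toSpec_eq (loc (hf i)) (theta (hf i)) p q (fun w _ => (p.base w).2) (fun w _ => (q.base w).2)
      fun z => ?_
    have e3 : ∀ (r : (G ⊗ X).left ⟶ X.left) (e : ⊤ ≤ (mm ≫ r) ⁻¹ᵁ loc (hf i)) (h : Γ(X.left, loc (hf i)))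
        (hle : a.act.left ⁻¹ᵁ loc (hf i) ⊓ (snd G X).left ⁻¹ᵁ loc (hf i) ≤ r ⁻¹ᵁ loc (hf i)),
        (mm ≫ r).appLE (loc (hf i)) ⊤ e h =
          mm.appLE (a.act.left ⁻¹ᵁ loc (hf i) ⊓ (snd G X).left ⁻¹ᵁ loc (hf i)) ⊤ (fun w _ => ⟨hQ' w, hQ w⟩) (r.appLE (loc (hf i)) _ hle h) := by
      intro r e h hle
      rw [← CommRingCat.comp_apply, Scheme.Hom.appLE_comp_appLE]
    rw [Groth.L18.GITQ.appLE_congr_mor (hp1.trans hact) _ _ _ (fun w _ => hQ' w),
      Groth.L18.GITQ.appLE_congr_mor (hq1.trans hsnd) _ _ _ (fun w _ => hQ w),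
      e3 _ _ _ inf_le_left, e3 _ _ _ inf_le_right]
    exact congrArg _ (invOn_theta (hf i) _)
  have w' : (pieceXι hf i).left ≫ (quotPhi hf).left = (piecePhi hf i).left ≫ (pieceYι hf i).left :=
    congrArg CommaMorphism.left (isPullback_piece hf i).w
  rw [← Category.assoc, ← Category.assoc, ← hp2, ← hq2, Category.assoc, Category.assoc, w',
    ← Category.assoc, ← Category.assoc, key]

include hjU haU in
/-- The piece is the affine quotient. -/
theorem isUnivCatQuot_piece [CharZero k] (hG : Red.IsReductive G) [LocallyOfFiniteType X.hom] [QuasiCompact X.hom]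
    (i : J) (haff : IsAffineOpen (loc (hf i))) (ai : AlgGrp.Action G (pieceX hf i))
    (hai : ai.act ≫ pieceXι hf i = (G ◁ pieceXι hf i) ≫ aU.act) (hi : GIT.IsInvariant ai (piecePhi hf i)) :
    GIT.IsUnivCatQuot ai (piecePhi hf i) ∧ GIT.IsUnivSubmersive (piecePhi hf i).left ∧
      LocallyOfFiniteType (pieceY hf i).hom := by
  haveI : IsAffineHom G.hom := hG.1
  haveI : IsAffine (pieceX hf i).left := haff
  haveI : CompactSpace X.left := QuasiCompact.compactSpace_of_compactSpace X.hom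
  haveI : IsLocallyNoetherian X.left := LocallyOfFiniteType.isLocallyNoetherian X.hom
  haveI := B.atlas.affine
  haveI : CompactSpace B.V.left := QuasiCompact.compactSpace_of_compactSpace B.π.left
  haveI : QuasiCompact (snd G B.V).left :=
    MorphismProperty.of_isPullback (P := @QuasiCompact)
      (IsPullback.of_hasPullback G.hom B.V.hom : IsPullback (fst G B.V).left (snd G B.V).left G.hom B.V.hom)
      inferInstance
  haveI : CompactSpace (G ⊗ B.V).left := QuasiCompact.compactSpace_of_compactSpace (snd G B.V).left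
  obtain ⟨Y₀, φ₀, hY₀, hinj₀, hran₀, hu₀, hs₀, -, hlft₀⟩ :=
    Groth.L14.GITAff.exists_univCatQuot_affine G (pieceX hf i) hG ai
  haveI := hY₀
  obtain ⟨χ, hχ, -⟩ := hu₀.1.2 (pieceY hf i) (piecePhi hf i) hi
  have htop : ∀ z, φ₀.left.appTop (χ.left.appTop z) = (loc (hf i)).topIso.inv
      (theta (hf i) ((Scheme.ΓSpecIso _).hom z)) := by
    intro z
    refine Eq.trans ?_ (appTop_toSpec (loc (hf i)) (theta (hf i)) z)
    exact congrArg (fun q : pieceX hf i ⟶ pieceY hf i => q.left.appTop z) hχ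
  have hsurj : ∀ h : Γ((pieceX hf i).left, ⊤), ai.act.left.appTop h = (snd G (pieceX hf i)).left.appTop h →
      InvOn a (loc (hf i)) ((loc (hf i)).topIso.hom h) := by
    intro h hh
    let jj : pieceX hf i ⟶ X := pieceXι hf i ≫ jU
    have hjj : jj.left = (loc (hf i)).ι := by
      show X.left.homOfLE (le_dom hf i) ≫ jU.left = _
      rw [hjU, Scheme.homOfLE_ι]
    have hc : ai.act ≫ jj = (G ◁ jj) ≫ a.act := by
      rw [reassoc_of% hai, haU, ← MonoidalCategory.whiskerLeft_comp_assoc]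
    have hpb := Groth.L18.GITQ.isPullback_whiskerLeft G jj
    haveI : IsOpenImmersion jj.left := hjj ▸ inferInstance
    haveI : IsOpenImmersion (G ◁ jj).left := MorphismProperty.of_isPullback (P := @IsOpenImmersion) hpb.flip inferInstance
    haveI : Flat (G ◁ jj).left := inferInstance
    set Q := a.act.left ⁻¹ᵁ loc (hf i) ⊓ (snd G X).left ⁻¹ᵁ loc (hf i)
    have hle : ⊤ ≤ (G ◁ jj).left ⁻¹ᵁ Q := fun w _ => by
      have h2 : (G ◁ jj).left.base w ∈ (snd G X).left ⁻¹ᵁ loc (hf i) := by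
        show ((G ◁ jj) ≫ snd G X).left.base w ∈ loc (hf i)
        rw [whiskerLeft_snd, Over.comp_left, hjj]
        exact ((snd G (pieceX hf i)).left.base w).2
      exact ⟨by rw [preimage_nv (hf i).1 (hf i).2]; exact h2, h2⟩
    refine injective_appLE_of_flat (G ◁ jj).left Q ⊤ hle (fun q hq => ?_) ?_
    · obtain ⟨w, hw, -⟩ := Groth.L14.GITAff.exists_preimage_isPullback hpb q ⟨(snd G X).left.base q, hq.2⟩ (by
        rw [hjj]; rfl)
      exact ⟨w, Opens.mem_top w, hw⟩
    · show (a.act.left.appLE (loc (hf i)) Q inf_le_left ≫ (G ◁ jj).left.appLE Q ⊤ hle) ((loc (hf i)).topIso.hom h) =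
        ((snd G X).left.appLE (loc (hf i)) Q inf_le_right ≫ (G ◁ jj).left.appLE Q ⊤ hle) ((loc (hf i)).topIso.hom h)
      rw [Scheme.Hom.appLE_comp_appLE, Scheme.Hom.appLE_comp_appLE]
      have e2 : ∀ (r : (G ⊗ pieceX hf i).left ⟶ (loc (hf i)).toScheme) (z : Γ(X.left, loc (hf i))) (e : ⊤ ≤ (r ≫ jj.left) ⁻¹ᵁ loc (hf i)),
          (r ≫ jj.left).appLE (loc (hf i)) ⊤ e z = r.appTop ((loc (hf i)).topIso.inv z) := by
        rw [hjj]
        exact fun r z e => (appTop_topIso_inv _ r z e).symm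
      have h1 : (G ◁ jj).left ≫ a.act.left = ai.act.left ≫ jj.left := congrArg CommaMorphism.left hc.symm
      have h2 : (G ◁ jj).left ≫ (snd G X).left = (snd G (pieceX hf i)).left ≫ jj.left :=
        congrArg CommaMorphism.left (whiskerLeft_snd G jj)
      rw [Groth.L18.GITQ.appLE_congr_mor h1 _ _ _
          (fun w _ => by
            show (ai.act.left ≫ jj.left).base w ∈ loc (hf i); rw [hjj]; exact (ai.act.left.base w).2),
        Groth.L18.GITQ.appLE_congr_mor h2 _ _ _
          (fun w _ => by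
            show ((snd G (pieceX hf i)).left ≫ jj.left).base w ∈ loc (hf i); rw [hjj]
            exact ((snd G (pieceX hf i)).left.base w).2)]
      erw [e2, e2, Iso.hom_inv_id_apply]
      exact hh
  have hbij : Function.Bijective χ.left.appTop :=
    bijective_of_factor (loc (hf i)) (theta (hf i)) (theta_injective (hf i)) χ.left.appTop φ₀.left.appTop hinj₀ htop
      fun y => theta_surjective (hf i) _ (hsurj _ (hran₀.le ⟨y, rfl⟩))
  haveI : IsIso χ.left.appTop := (ConcreteCategory.isIso_iff_bijective _).2 hbij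
  haveI : IsAffine (pieceY hf i).left := inferInstanceAs (IsAffine (Spec _))
  haveI : IsIso χ.left := by
    have e : χ.left = Y₀.left.isoSpec.hom ≫ Spec.map χ.left.appTop ≫ (pieceY hf i).left.isoSpec.inv := by
      rw [Scheme.isoSpec_inv_naturality, Iso.hom_inv_id_assoc]
    rw [e]; infer_instance
  haveI : IsIso χ := by
    haveI : IsIso ((Over.forget _).map χ) := inferInstanceAs (IsIso χ.left)
    exact isIso_of_reflects_iso χ (Over.forget _)
  have hq : GIT.IsCatQuot ai (φ₀ ≫ χ) := by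
    refine ⟨hχ.symm ▸ hi, fun Z ψ hψ => ?_⟩
    obtain ⟨ev, hev, hu⟩ := hu₀.1.2 Z ψ hψ
    refine ⟨inv χ ≫ ev, ?_, fun ev' h' => ?_⟩
    · show (φ₀ ≫ χ) ≫ inv χ ≫ ev = ψ
      rw [Category.assoc, IsIso.hom_inv_id_assoc]; exact hev
    · rw [IsIso.eq_inv_comp]
      exact hu _ (by show φ₀ ≫ χ ≫ ev' = ψ; rw [← Category.assoc]; exact h')
  have huq := Groth.L14.GITAff.isUnivCatQuot_comp_iso (asIso χ) hu₀ hq
  rw [asIso_hom, hχ] at huq
  refine ⟨huq, ?_, ?_⟩
  · rw [← hχ, Over.comp_left]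
    exact (MorphismProperty.cancel_right_of_respectsIso (MorphismProperty.universally _) φ₀.left χ.left).2 hs₀
  · haveI := hlft₀ (inferInstanceAs (LocallyOfFiniteType ((loc (hf i)).ι ≫ X.hom)))
    rw [← Over.w (inv χ)]
    haveI : IsIso (inv χ).left := inferInstanceAs (IsIso ((Over.forget _).map (inv χ)))
    infer_instance

include hjU haU in
/-- The quotient of the union of the loci. -/
theorem quotPhi_spec [CharZero k] (hG : Red.IsReductive G) [LocallyOfFiniteType X.hom] [QuasiCompact X.hom]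
    [Finite J] (haff : ∀ i, IsAffineOpen (loc (hf i))) :
    GIT.IsUnivCatQuot aU (quotPhi hf) ∧ IsAffineHom (quotPhi hf).left ∧ GIT.IsUnivSubmersive (quotPhi hf).left ∧
      LocallyOfFiniteType (quotY hf).hom ∧ ∃ M : (quotY hf).left.Modules, CohB1.IsAmple M := by
  have hinv := invariant_quotPhi hf aU jU hjU haU
  choose ai hai hii using fun i => Groth.L18.GITQ.exists_baseChange_action aU hinv (isPullback_piece hf i)
  have hp := fun i => isUnivCatQuot_piece hf aU jU hjU haU hG i (haff i) (ai i) (hai i) (hii i)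
  refine ⟨isUnivCatQuot_of_cover ai (piecePhi hf) (pieceXι hf) (pieceYι hf) (exists_mem_pieceYι hf)
    (isPullback_piece hf) hai (fun i => (hp i).1) hinv, ?_, ?_, ?_, ?_⟩
  · refine isAffineHom_of_forall_exists_isAffineOpen _ fun y => ?_
    obtain ⟨i, hi⟩ := exists_mem_pieceYι hf y
    haveI : IsAffine (pieceY hf i).left := inferInstanceAs (IsAffine (Spec _))
    haveI : IsAffine (pieceX hf i).left := haff i
    refine ⟨(pieceYι hf i).left.opensRange, hi, isAffineOpen_opensRange _, ?_⟩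
    haveI : IsOpenImmersion (pieceXι hf i).left := inferInstanceAs (IsOpenImmersion (X.left.homOfLE (le_dom hf i)))
    have e : (quotPhi hf).left ⁻¹ᵁ (pieceYι hf i).left.opensRange = (pieceXι hf i).left.opensRange := by
      have h := ((isPullback_piece hf i).map (Over.forget _))
      refine Opens.ext (Set.ext fun x => ⟨fun ⟨y, hy⟩ => ?_, fun ⟨z, hz⟩ => ⟨(piecePhi hf i).left.base z, ?_⟩⟩)
      · obtain ⟨z, hz, -⟩ := Groth.L14.GITAff.exists_preimage_isPullback h x y hy.symm
        exact ⟨z, hz⟩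
      · rw [← hz]
        exact congrArg (fun q : (pieceX hf i).left ⟶ (quotY hf).left => q.base z) h.w.symm
    rw [e]
    exact isAffineOpen_opensRange _
  · exact isUnivSubmersive_of_cover (quotPhi hf).left (fun i => (piecePhi hf i).left) (fun i => (pieceXι hf i).left)
      (fun i => (pieceYι hf i).left) (exists_mem_pieceYι hf) (fun i => (isPullback_piece hf i).map (Over.forget _))
      (fun i => (hp i).2.1)
  · let 𝒰 : (quotY hf).left.OpenCover := Scheme.Cover.mkOfCovers J (fun i => (pieceY hf i).left)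
      (fun i => (pieceYι hf i).left) (fun y => (exists_mem_pieceYι hf y).imp fun i ⟨z, hz⟩ => ⟨z, hz⟩)
      (fun i => inferInstanceAs (IsOpenImmersion (pieceYι hf i).left))
    rw [IsZariskiLocalAtSource.iff_of_openCover (P := @LocallyOfFiniteType) 𝒰]
    intro i
    show LocallyOfFiniteType ((pieceYι hf i).left ≫ (quotY hf).hom)
    rw [Over.w]
    exact (hp i).2.2
  · haveI := compactSpace_target hf
    obtain ⟨d, -, hd⟩ := Groth.Agent.S9817.result (deg B N) (target hf).toScheme (target hf).ι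
    exact ⟨_, hd⟩

end Groth.L14.GITLin
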