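import Groth.Agent.L14.GITLin.Main
import Groth.Agent.L14.GITLin.Geom

/-!
# The geometric quotient of the stable locus
-/

set_option autoImplicit false
set_option linter.style.haveILetI false
set_option backward.isDefEq.respectTransparency false
set_option backward.isDefEq.respectTransparency.types false

noncomputable section

universe u

open CategoryTheory MonoidalCategory CartesianMonoidalCategory MonObj AlgebraicGeometry TopologicalSpace Opposite

namespace Groth.L14.GITLin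

variable {k : Type u} [Field k]

attribute [local instance] secAlg

variable {G X : Over (Spec (CommRingCat.of k))} [GrpObj G] {a : AlgGrp.Action G X} {B : GLinSh.LinBun G a}

/-- A stable point lies in the non-vanishing locus of a section whose weight is a positive multiple of `N`. -/
theorem exists_piece_of_stable {N : ℕ} (hN : 1 ≤ N) {x : X.left} (hx : B.IsStablePt x) :
    ∃ (e : ℕ) (g : Γ(B.V.left, ⊤)) (hg : B.IsInvSection (N * e) g),
      0 < e ∧ x ∈ loc hg ∧ IsAffineOpen (loc hg) ∧ GLinSh.ClosedOrbitsOn a (loc hg) := by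
  obtain ⟨n, g, hn, hg, hxg, Ug, hUg, haff, hcl⟩ := hx
  have hg' : B.IsInvSection (N * n) (g ^ N) := sec_congr (sec_pow hg N) (Nat.mul_comm _ _)
  have e : loc hg' = Ug := Opens.ext (by
    show GLinSh.nonvanishing B.π (g ^ N) = _
    rw [nonvanishing_pow (by omega), hUg])
  exact ⟨n, g ^ N, hg', by omega, by rw [e]; exact hUg.ge hxg, by rw [e]; exact haff, by rw [e]; exact hcl⟩

theorem loc_subset_sLocus {N e : ℕ} (hN : 1 ≤ N) (he : 0 < e) {g : Γ(B.V.left, ⊤)} (hg : B.IsInvSection (N * e) g)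
    (haff : IsAffineOpen (loc hg)) (hcl : GLinSh.ClosedOrbitsOn a (loc hg)) :
    (loc hg : Set X.left) ⊆ B.sLocus :=
  fun _ hx => ⟨N * e, g, Nat.mul_pos hN he, hg, hx, loc hg, rfl, haff, hcl⟩

/-- A geometric quotient of the stable locus inside any categorical quotient of the semi-stable locus. -/
theorem exists_stable_quotient [CharZero k] (hG : Red.IsReductive G) [LocallyOfFiniteType X.hom] [QuasiCompact X.hom]
    (U : X.left.Opens) (hU : (U : Set X.left) = B.ssLocus)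
    (aU : AlgGrp.Action G (Over.mk (U.ι ≫ X.hom)))
    (jU : Over.mk (U.ι ≫ X.hom) ⟶ X) (hjU : jU.left = U.ι)
    (haU : aU.act ≫ jU = (G ◁ jU) ≫ a.act)
    (Y : Over (Spec (CommRingCat.of k))) (φ : Over.mk (U.ι ≫ X.hom) ⟶ Y) (hφ : GIT.IsCatQuot aU φ)
    (Us : X.left.Opens) (hUs : (Us : Set X.left) = B.sLocus) (hle : Us ≤ U)
    (aS : AlgGrp.Action G (Over.mk (Us.ι ≫ X.hom)))
    (jS : Over.mk (Us.ι ≫ X.hom) ⟶ X) (hjS : jS.left = Us.ι)
    (haS : aS.act ≫ jS = (G ◁ jS) ≫ a.act) :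
    ∃ (Yt : Y.left.Opens) (φs : Over.mk (Us.ι ≫ X.hom) ⟶ Over.mk (Yt.ι ≫ Y.hom)),
      φs.left ≫ Yt.ι = X.left.homOfLE hle ≫ φ.left ∧
      φ.left ⁻¹ᵁ Yt = U.ι ⁻¹ᵁ Us ∧
      GIT.IsUnivGeomQuot aS φs := by
  obtain ⟨N, J, _, f, hf, hN, haff, rfl⟩ := exists_data U hU
  obtain ⟨hu₀, -, hs₀, -, -⟩ := quotPhi_spec hf aU jU hjU haU hG haff
  obtain ⟨u, hu, -⟩ := hu₀.1.2 Y φ hφ.1
  obtain ⟨v, hv, -⟩ := hφ.2 (quotY hf) (quotPhi hf) hu₀.1.1
  have e1 : u ≫ v = 𝟙 _ := (hu₀.1.2 _ (quotPhi hf) hu₀.1.1).unique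
    (by show quotPhi hf ≫ u ≫ v = quotPhi hf; rw [← Category.assoc, hu, hv]) (Category.comp_id _)
  have e2 : v ≫ u = 𝟙 Y := (hφ.2 Y φ hφ.1).unique
    (by show φ ≫ v ≫ u = φ; rw [← Category.assoc, hv, hu]) (Category.comp_id _)
  have huq : GIT.IsUnivCatQuot aU φ := by
    have := Groth.L14.GITAff.isUnivCatQuot_comp_iso ⟨u, v, e1, e2⟩ hu₀ (by rw [hu]; exact hφ)
    rwa [hu] at this
  haveI : IsIso u := ⟨v, e1, e2⟩
  haveI : IsIso u.left := inferInstanceAs (IsIso ((Over.forget _).map u))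
  have hsub : GIT.IsUnivSubmersive φ.left := by
    rw [← hu, Over.comp_left]
    exact (MorphismProperty.cancel_right_of_respectsIso (MorphismProperty.universally _) (quotPhi hf).left u.left).2 hs₀
  choose e g hg he hxg haffg hclg using fun x : Us => exists_piece_of_stable hN (hUs.le x.2 : B.IsStablePt x.1)
  have hsup : Us = ⨆ x : Us, loc (hg x) := le_antisymm (fun x hx => Opens.mem_iSup.2 ⟨⟨x, hx⟩, hxg ⟨x, hx⟩⟩)
    (iSup_le fun x z hz => hUs.ge (loc_subset_sLocus hN (he x) (hg x) (haffg x) (hclg x) hz))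
  obtain ⟨φs, h1, h2, h3⟩ := exists_geomQuot_of_pieces hG (dom hf) aU jU hjU haU huq hsub Us hle aS jS hjS haS
    (fun x : Us => v.left ⁻¹ᵁ ((target hf).ι ⁻¹ᵁ Proj.basicOpen (deg B N) (mkDeg (hg x)))) (fun x => loc (hg x))
    haffg hclg (fun x => by
      rw [← quotPhi_preimage hf (hg x) (he x), ← Scheme.Hom.comp_preimage, ← Over.comp_left, hv]) hsup
  exact ⟨_, φs, h1, h2, h3⟩

end Groth.L14.GITLin
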